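import Mathlib
import Cfsg.Prelude.Def_GeometricClasses
import Cfsg.Agent.Lib.Helper48.Subfield.Main

set_option autoImplicit false
set_option linter.unusedSectionVars false

/-! Elements normalising a subgroup satisfying `Setup` are rational up to a scalar; an element mapping
rational points to rational points is rational up to a scalar. -/

namespace Cfsg.Agent.Lib.Helper48.Subfield

open scoped MatrixGroups Matrix
open Cfsg.Agent.Lib.Helper95

variable {ι : Type} [Fintype ι] [DecidableEq ι] {F : Type*} [Field F]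

/-- an invertible matrix mapping rational points to rational points is rational up to a scalar -/
theorem mem_ratUpTo_of_maps {F₀ : Subfield F} (g : GL ι F) (i₀ : ι)
    (hmaps : ∀ w : ι → F, Rat F₀ w → w ≠ 0 → Ratline F₀ ((g : Matrix ι ι F) *ᵥ w)) :
    g ∈ ratUpTo (ι := ι) F₀ := by
  have hcol : ∀ j : ι, Ratline F₀ ((g : Matrix ι ι F) *ᵥ (Pi.single j 1)) := by
    intro j
    apply hmaps _ (Rat.single F₀ j F₀.one_mem)
    intro h0
    have := congrFun h0 j
    simp at this
  choose a ha0 ha using hcol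
  have hinj : ∀ x : ι → F, (g : Matrix ι ι F) *ᵥ x = 0 → x = 0 := by
    intro x hx
    have := GL_inv_mulVec_mulVec g x
    rw [hx, Matrix.mulVec_zero] at this
    exact this.symm
  have key : ∀ j : ι, Rat F₀ (a i₀ • ((g : Matrix ι ι F) *ᵥ (Pi.single j 1))) := by
    intro j
    by_cases hj : j = i₀
    · subst hj; exact ha j
    · have hsum : Ratline F₀ ((g : Matrix ι ι F) *ᵥ (Pi.single i₀ 1 + Pi.single j 1)) := by
        apply hmaps _
          (Rat.add (Rat.single F₀ i₀ F₀.one_mem) (Rat.single F₀ j F₀.one_mem))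
        intro h0
        have := congrFun h0 j
        simp [hj] at this
      obtain ⟨b, hb0, hb⟩ := hsum
      set x : ι → F := a i₀ • ((g : Matrix ι ι F) *ᵥ (Pi.single i₀ 1)) with hx
      set y : ι → F := a j • ((g : Matrix ι ι F) *ᵥ (Pi.single j 1)) with hy
      have hz : b • ((g : Matrix ι ι F) *ᵥ (Pi.single i₀ 1 + Pi.single j 1))
          = (b / a i₀) • x + (b / a j) • y := by
        rw [hx, hy, smul_smul, smul_smul, div_mul_cancel₀ _ (ha0 i₀), div_mul_cancel₀ _ (ha0 j),
          Matrix.mulVec_add, smul_add]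
      rw [hz] at hb
      have hind : ∀ c d : F, c • x + d • y = 0 → c = 0 ∧ d = 0 := by
        intro c d hcd
        have h1 : (g : Matrix ι ι F) *ᵥ ((c * a i₀) • (Pi.single i₀ 1 : ι → F)
            + (d * a j) • (Pi.single j 1 : ι → F)) = 0 := by
          rw [Matrix.mulVec_add, Matrix.mulVec_smul, Matrix.mulVec_smul, ← smul_smul, ← smul_smul]
          exact hcd
        have h2 := hinj _ h1
        have h3 := congrFun h2 i₀
        have h4 := congrFun h2 j
        have hij' : ¬ (i₀ = j) := fun h => hj h.symm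
        simp [hj, hij'] at h3 h4
        constructor
        · rcases h3 with h | h
          · exact h
          · exact absurd h (ha0 i₀)
        · rcases h4 with h | h
          · exact h
          · exact absurd h (ha0 j)
      obtain ⟨hα, hβ⟩ := rat_coeffs (ha i₀) (ha j) _ _ hb hind
      have e : a i₀ • ((g : Matrix ι ι F) *ᵥ (Pi.single j 1))
          = ((b / a j) / (b / a i₀)) • y := by
        rw [hy, smul_smul]
        congr 1
        have := ha0 i₀
        have := ha0 j
        field_simp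
      rw [e]
      exact Rat.smul (F₀.div_mem hβ hα) (ha j)
  refine ⟨a i₀, ha0 i₀, ?_⟩
  intro i j
  have := key j i
  simpa [Matrix.mulVec_single_one] using this

namespace Setup

variable {F₀ : Subfield F} {K : Subgroup (GL ι F)}

/-- every element normalising `K` maps rational points to rational points -/
theorem maps_rat_to_ratline_of_normalizes [Finite F] (S : Setup F₀ K) (g : GL ι F)
    (hg : ∀ k ∈ K, g * k * g⁻¹ ∈ K) (w : ι → F)
    (hw : Rat F₀ w) (hw0 : w ≠ 0) : Ratline F₀ ((g : Matrix ι ι F) *ᵥ w) := by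
  obtain ⟨k, hk⟩ : ∃ k, w k ≠ 0 := by
    by_contra hcon
    push Not at hcon
    exact hw0 (funext hcon)
  obtain ⟨j, hjk, -⟩ := exists_third S.card3 k k
  set θ : ι → F := w k • (Pi.single j 1 : ι → F) - w j • (Pi.single k 1 : ι → F) with hθ
  have hθr : Rat F₀ θ :=
    Rat.sub (Rat.smul (hw k) (Rat.single F₀ j F₀.one_mem))
      (Rat.smul (hw j) (Rat.single F₀ k F₀.one_mem))
  have hθw : θ ⬝ᵥ w = 0 := by
    rw [hθ, sub_dotProduct, smul_dotProduct, smul_dotProduct, single_dotProduct,
      single_dotProduct]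
    simp only [smul_eq_mul, one_mul]
    ring
  have hθ0 : θ ≠ 0 := by
    intro h0
    have := congrFun h0 j
    simp [hθ, hjk, hk] at this
  have ht : tvGL θ w hθw ∈ K := S.rat_tv θ w hθw hθr hw
  have hd : (θ ᵥ* ((g⁻¹ : GL ι F) : Matrix ι ι F)) ⬝ᵥ ((g : Matrix ι ι F) *ᵥ w) = 0 := by
    rw [conj_dot_eq]; exact hθw
  have h1 : g * tvGL θ w hθw * g⁻¹ ∈ K := hg _ ht
  rw [tvGL_conj g θ w hθw hd] at h1
  by_contra hnot
  by_cases hax : Ratline F₀ (θ ᵥ* ((g⁻¹ : GL ι F) : Matrix ι ι F))
  · obtain ⟨c, hc0, hc⟩ := hax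
    set θ' : ι → F := θ ᵥ* ((g⁻¹ : GL ι F) : Matrix ι ι F) with hθ'
    have hθ'0 : θ' ≠ 0 := by
      intro h0
      apply hθ0
      have : θ = θ' ᵥ* (g : Matrix ι ι F) := by
        rw [hθ', Matrix.vecMul_vecMul, ← Units.val_mul, inv_mul_cancel, Units.val_one,
          Matrix.vecMul_one]
      rw [this, h0, Matrix.zero_vecMul]
    have hcθ0 : c • θ' ≠ 0 := by
      intro h0
      apply hθ'0
      have := congrArg (fun x => c⁻¹ • x) h0
      simpa [smul_smul, inv_mul_cancel₀ hc0] using this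
    have e : (g : Matrix ι ι F) *ᵥ w = c • (c⁻¹ • ((g : Matrix ι ι F) *ᵥ w)) := by
      rw [smul_smul, mul_inv_cancel₀ hc0, one_smul]
    have hd2 : θ' ⬝ᵥ (c • (c⁻¹ • ((g : Matrix ι ι F) *ᵥ w))) = 0 := by rw [← e]; exact hd
    have hd3 : (c • θ') ⬝ᵥ (c⁻¹ • ((g : Matrix ι ι F) *ᵥ w)) = 0 := by
      rw [smul_dotProduct, ← dotProduct_smul]; exact hd2
    have h2 : tvGL (c • θ') (c⁻¹ • ((g : Matrix ι ι F) *ᵥ w)) hd3 ∈ K := by
      rw [← tvGL_smul_swap θ' _ c hd2 hd3, tvGL_congr _ _ _ _ hd2 hd rfl e.symm]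
      exact h1
    exact hnot ⟨c⁻¹, inv_ne_zero hc0, S.rat_centre _ _ hd3 hc hcθ0 h2⟩
  · exact S.no_irrational _ _ hd h1 hnot hax

/-- every element normalising `K` is rational up to a scalar -/
theorem mem_ratUpTo_of_normalizes [Finite F] (S : Setup F₀ K) (g : GL ι F)
    (hg : ∀ k ∈ K, g * k * g⁻¹ ∈ K) : g ∈ ratUpTo (ι := ι) F₀ := by
  obtain ⟨i₀, -, -⟩ := S.exists_pair
  exact mem_ratUpTo_of_maps g i₀ (fun w hw hw0 => S.maps_rat_to_ratline_of_normalizes g hg w hw hw0)

end Setup

end Cfsg.Agent.Lib.Helper48.Subfield
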