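import Mathlib
import Cfsg.Prelude.Def_GeometricClasses
import Cfsg.Agent.Lib.Helper11.SpMax
import Cfsg.Agent.Lib.Helper48.Subfield.Main

set_option autoImplicit false
set_option linter.unusedSectionVars false
set_option linter.unusedVariables false
set_option linter.unusedSimpArgs false

/-! Basic facts for the maximality of the subfield subgroups of `Sp_{2m}`: the standard Lagrangian,
root elements, rational elements, the Levi embedding. -/

namespace Cfsg.Agent.Lib.Helper48.SpSub

open scoped MatrixGroups Matrix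
open Matrix Cfsg.Agent.Lib.Helper18 Cfsg.Agent.Lib.Helper11.SpMax Cfsg.Agent.Lib.Helper48.Subfield

variable {F : Type*} [Field F] {m : ℕ}

local notation "V" => (Fin m ⊕ Fin m → F)
local notation "ff" => Cfsg.sympForm m F
local notation "GLm" => Matrix.GeneralLinearGroup (Fin m ⊕ Fin m) F

/-- the embedding of `F^m` as the standard Lagrangian subspace -/
def emb (x : Fin m → F) : V := Sum.elim x 0

/-- first halves of the standard basis -/
def eb (i : Fin m) : V := Pi.single (Sum.inl i) 1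

/-- second halves of the standard basis -/
def fb (i : Fin m) : V := Pi.single (Sum.inr i) 1

@[simp] theorem emb_inl (x : Fin m → F) (i : Fin m) : emb x (Sum.inl i) = x i := rfl
@[simp] theorem emb_inr (x : Fin m → F) (i : Fin m) : emb x (Sum.inr i) = 0 := rfl

theorem emb_add (x y : Fin m → F) : emb (x + y) = emb x + emb y := by
  funext a; rcases a with a | a <;> simp [emb]

theorem emb_smul (c : F) (x : Fin m → F) : emb (c • x) = c • emb x := by
  funext a; rcases a with a | a <;> simp [emb]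

theorem emb_zero : emb (0 : Fin m → F) = 0 := by
  funext a; rcases a with a | a <;> simp [emb]

theorem emb_sub (x y : Fin m → F) : emb (x - y) = emb x - emb y := by
  funext a; rcases a with a | a <;> simp [emb]

theorem emb_injective : Function.Injective (emb : (Fin m → F) → V) := by
  intro x y h
  funext i
  have := congrFun h (Sum.inl i)
  simpa using this

theorem emb_single (i : Fin m) : emb (Pi.single i (1 : F)) = eb i := by
  funext a
  rcases a with a | a
  · simp [emb, eb, Pi.single_apply]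
  · simp [emb, eb]

theorem eq_emb_of_inr_zero (x : V) (h : ∀ i, x (Sum.inr i) = 0) :
    x = emb (fun i => x (Sum.inl i)) := by
  funext a
  rcases a with a | a
  · rfl
  · simp [h a]

/-- the form as a difference of dot products -/
theorem sf_eq_dot (x y : V) :
    ff x y = (fun i => x (Sum.inr i)) ⬝ᵥ (fun i => y (Sum.inl i))
      - (fun i => x (Sum.inl i)) ⬝ᵥ (fun i => y (Sum.inr i)) := by
  rw [sympForm_eq, Finset.sum_sub_distrib]
  rfl

theorem sf_emb_right (x : V) (y : Fin m → F) : ff x (emb y) = (fun i => x (Sum.inr i)) ⬝ᵥ y := by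
  rw [sf_eq_dot]
  simp [dotProduct]

theorem sf_emb_left (x : Fin m → F) (y : V) : ff (emb x) y = - (x ⬝ᵥ (fun i => y (Sum.inr i))) := by
  rw [sf_eq_dot]
  simp [dotProduct]

theorem sf_emb_emb (x y : Fin m → F) : ff (emb x) (emb y) = 0 := by
  rw [sf_emb_right]
  simp [dotProduct]

theorem sf_eb_right (x : V) (i : Fin m) : ff x (eb i) = x (Sum.inr i) := sf_single_inl m x i

theorem sf_fb_right (x : V) (i : Fin m) : ff x (fb i) = - x (Sum.inl i) := sf_single_inr m x i

theorem sf_eb_left (x : V) (i : Fin m) : ff (eb i) x = - x (Sum.inr i) := by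
  rw [sf_swap, sf_eb_right]

theorem sf_fb_left (x : V) (i : Fin m) : ff (fb i) x = x (Sum.inl i) := by
  rw [sf_swap, sf_fb_right, neg_neg]

theorem eb_ne_zero (i : Fin m) : (eb i : V) ≠ 0 := by
  intro h
  have := congrFun h (Sum.inl i)
  simp [eb] at this

theorem fb_ne_zero (i : Fin m) : (fb i : V) ≠ 0 := by
  intro h
  have := congrFun h (Sum.inr i)
  simp [fb] at this

/-- a vector orthogonal to the whole Lagrangian lies in it -/
theorem inr_zero_of_perp (w : V) (h : ∀ y : Fin m → F, ff w (emb y) = 0) (i : Fin m) :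
    w (Sum.inr i) = 0 := by
  have := h (Pi.single i 1)
  rw [emb_single, sf_eb_right] at this
  exact this

/-! ### transvections and root elements -/

theorem tg_mul (v : V) (c d : F) : tg m v c * tg m v d = tg m v (c + d) := by
  apply gl_ext
  intro x
  rw [gl_mul_act, tg_act, tg_act, tg_act]
  simp only [sf_add_left, sf_smul_left, sf_self, mul_zero, add_zero]
  module

theorem tg_zero (v : V) : tg m v (0 : F) = 1 := by
  apply gl_ext
  intro x
  rw [tg_act]
  simp

/-- the element `x ↦ x + f(x,a) b + f(x,b) a` (for `f(a,b) = 0`) -/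
def rho (a b : V) : GLm := tg m (a + b) 1 * tg m a (-1) * tg m b (-1)

theorem rho_mem (a b : V) : rho a b ∈ Cfsg.spGL m F :=
  Subgroup.mul_mem _ (Subgroup.mul_mem _ (tg_mem m _ _) (tg_mem m _ _)) (tg_mem m _ _)

theorem rho_act (a b : V) (hab : ff a b = 0) (x : V) :
    (rho a b).1 *ᵥ x = x + ff x a • b + ff x b • a := by
  have hba : ff b a = 0 := by rw [sf_swap, hab, neg_zero]
  unfold rho
  rw [gl_mul_act, gl_mul_act, tg_act, tg_act, tg_act]
  simp only [sf_add_left, sf_add_right, sf_smul_left, sf_smul_right, sf_self, hab, hba, mul_zero,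
    add_zero, zero_add, one_mul, neg_mul, mul_neg]
  module

theorem conj_rho (g : GLm) (hg : g ∈ Cfsg.spGL m F) (a b : V) :
    g * rho a b * g⁻¹ = rho (g.1 *ᵥ a) (g.1 *ᵥ b) := by
  unfold rho
  rw [← conj_tg m g hg, ← conj_tg m g hg, ← Matrix.mulVec_add, ← conj_tg m g hg]
  group

theorem rho_symm (a b : V) (hab : ff a b = 0) : rho a b = rho b a := by
  have hba : ff b a = 0 := by rw [sf_swap, hab, neg_zero]
  apply gl_ext
  intro x
  rw [rho_act a b hab, rho_act b a hba]
  module

theorem rho_smul (a b : V) (hab : ff a b = 0) (c : F) : rho a (c • b) = rho (c • a) b := by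
  apply gl_ext
  intro x
  rw [rho_act a (c • b) (by rw [sf_smul_right, hab, mul_zero]),
    rho_act (c • a) b (by rw [sf_smul_left, hab, mul_zero])]
  simp only [sf_smul_right]
  module

theorem rho_zero_right (a : V) : rho a (0 : V) = 1 := by
  apply gl_ext
  intro x
  rw [rho_act a 0 (sf_zero_right m a)]
  simp [sf_zero_right]

/-- addition formula in the unipotent radical of the stabiliser of `e` -/
theorem rho_add (e y z : V) (hy : ff y e = 0) (hz : ff z e = 0) :
    rho e (y + z) = rho e z * tg m e (-(ff y z)) * rho e y := by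
  have hey : ff e y = 0 := by rw [sf_swap, hy, neg_zero]
  have hez : ff e z = 0 := by rw [sf_swap, hz, neg_zero]
  apply gl_ext
  intro x
  rw [gl_mul_act, gl_mul_act, rho_act e (y + z) (by rw [sf_add_right, hey, hez, add_zero]),
    rho_act e y hey, tg_act, rho_act e z hez]
  simp only [sf_add_left, sf_add_right, sf_smul_left, sf_smul_right, sf_self, hy, hz, hey, hez,
    mul_zero, add_zero, zero_add]
  module

/-- splitting a transvection whose centre is a sum of two orthogonal vectors -/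
theorem tg_add_orth (a b : V) (hab : ff a b = 0) (c : F) :
    tg m (a + b) c = tg m a c * tg m b c * rho a (c • b) := by
  have hba : ff b a = 0 := by rw [sf_swap, hab, neg_zero]
  apply gl_ext
  intro x
  rw [gl_mul_act, gl_mul_act, rho_act a (c • b) (by rw [sf_smul_right, hab, mul_zero]), tg_act,
    tg_act, tg_act]
  simp only [sf_add_left, sf_add_right, sf_smul_left, sf_smul_right, sf_self, hab, hba,
    mul_zero, add_zero, zero_add]
  module

/-! ### rational elements -/

theorem sf_rat {F₀ : Subfield F} {x y : V} (hx : Rat F₀ x) (hy : Rat F₀ y) : ff x y ∈ F₀ := by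
  rw [sympForm_eq]
  exact F₀.sum_mem (fun i _ => F₀.sub_mem (F₀.mul_mem (hx _) (hy _)) (F₀.mul_mem (hx _) (hy _)))

theorem ratMat_of_cols {ι : Type} [Fintype ι] [DecidableEq ι] {F₀ : Subfield F}
    (M : Matrix ι ι F) (h : ∀ j, Rat F₀ (M *ᵥ Pi.single j 1)) : RatMat F₀ M := by
  intro i j
  have := h j i
  rwa [Matrix.mulVec_single_one] at this

theorem rat_eb (F₀ : Subfield F) (i : Fin m) : Rat F₀ (eb i : V) := Rat.single F₀ _ F₀.one_mem

theorem rat_fb (F₀ : Subfield F) (i : Fin m) : Rat F₀ (fb i : V) := Rat.single F₀ _ F₀.one_mem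

theorem rat_emb {F₀ : Subfield F} {x : Fin m → F} (hx : Rat F₀ x) : Rat F₀ (emb x) := by
  intro a
  rcases a with a | a
  · exact hx a
  · exact F₀.zero_mem

theorem tg_mem_G0 {F₀ : Subfield F} {v : V} (hv : Rat F₀ v) {c : F} (hc : c ∈ F₀) :
    tg m v c ∈ G0 (ι := Fin m ⊕ Fin m) F₀ := by
  apply mem_G0_of_ratMat
  apply ratMat_of_cols
  intro j
  rw [tg_act]
  exact Subfield.Rat.add (Rat.single F₀ j F₀.one_mem)
    (Subfield.Rat.smul (F₀.mul_mem hc (sf_rat (Rat.single F₀ j F₀.one_mem) hv)) hv)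

theorem rho_mem_G0 {F₀ : Subfield F} {a b : V} (ha : Rat F₀ a) (hb : Rat F₀ b) :
    rho a b ∈ G0 (ι := Fin m ⊕ Fin m) F₀ :=
  Subgroup.mul_mem _ (Subgroup.mul_mem _ (tg_mem_G0 (ha.add hb) F₀.one_mem)
    (tg_mem_G0 ha (F₀.neg_mem F₀.one_mem))) (tg_mem_G0 hb (F₀.neg_mem F₀.one_mem))

/-! ### the Levi embedding -/

/-- the Levi embedding `A ↦ diag(A, A⁻ᵀ)` -/
def levi (A : GL (Fin m) F) : GLm where
  val := Matrix.fromBlocks (A : Matrix (Fin m) (Fin m) F) 0 0
    ((A⁻¹ : GL (Fin m) F) : Matrix (Fin m) (Fin m) F)ᵀ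
  inv := Matrix.fromBlocks ((A⁻¹ : GL (Fin m) F) : Matrix (Fin m) (Fin m) F) 0 0
    (A : Matrix (Fin m) (Fin m) F)ᵀ
  val_inv := by
    rw [Matrix.fromBlocks_multiply]
    simp only [Matrix.mul_zero, Matrix.zero_mul, add_zero, zero_add]
    rw [← Matrix.transpose_mul, ← Units.val_mul, mul_inv_cancel, Units.val_one,
      Matrix.transpose_one, Matrix.fromBlocks_one]
  inv_val := by
    rw [Matrix.fromBlocks_multiply]
    simp only [Matrix.mul_zero, Matrix.zero_mul, add_zero, zero_add]
    rw [← Matrix.transpose_mul, ← Units.val_mul, inv_mul_cancel, Units.val_one,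
      Matrix.transpose_one, Matrix.fromBlocks_one]

theorem levi_act (A : GL (Fin m) F) (x : V) :
    (levi A).1 *ᵥ x = Sum.elim ((A : Matrix (Fin m) (Fin m) F) *ᵥ (fun i => x (Sum.inl i)))
      (((A⁻¹ : GL (Fin m) F) : Matrix (Fin m) (Fin m) F)ᵀ *ᵥ (fun i => x (Sum.inr i))) := by
  show (Matrix.fromBlocks (A : Matrix (Fin m) (Fin m) F) 0 0
    ((A⁻¹ : GL (Fin m) F) : Matrix (Fin m) (Fin m) F)ᵀ) *ᵥ x = _
  have hx : x = Sum.elim (fun i => x (Sum.inl i)) (fun i => x (Sum.inr i)) := by
    funext a; rcases a with a | a <;> rfl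
  conv_lhs => rw [hx]
  rw [Matrix.fromBlocks_mulVec]
  simp

theorem levi_emb (A : GL (Fin m) F) (y : Fin m → F) :
    (levi A).1 *ᵥ emb y = emb ((A : Matrix (Fin m) (Fin m) F) *ᵥ y) := by
  rw [levi_act]
  funext a
  rcases a with a | a
  · rfl
  · show (((A⁻¹ : GL (Fin m) F) : Matrix (Fin m) (Fin m) F)ᵀ *ᵥ fun i => emb y (Sum.inr i)) a = 0
    have : (fun i => emb y (Sum.inr i)) = (0 : Fin m → F) := rfl
    rw [this, Matrix.mulVec_zero]
    rfl

theorem levi_mem (A : GL (Fin m) F) : levi A ∈ Cfsg.spGL m F := by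
  rw [mem_spGL_iff]
  intro x y
  rw [sf_eq_dot, sf_eq_dot, levi_act, levi_act]
  simp only [Sum.elim_inl, Sum.elim_inr]
  have h1 : ∀ p q : Fin m → F,
      (((A⁻¹ : GL (Fin m) F) : Matrix (Fin m) (Fin m) F)ᵀ *ᵥ p)
        ⬝ᵥ ((A : Matrix (Fin m) (Fin m) F) *ᵥ q) = p ⬝ᵥ q := by
    intro p q
    rw [Matrix.mulVec_transpose, Matrix.dotProduct_mulVec, Matrix.vecMul_vecMul,
      ← Units.val_mul, inv_mul_cancel, Units.val_one, Matrix.vecMul_one]
  rw [h1, dotProduct_comm ((A : Matrix (Fin m) (Fin m) F) *ᵥ _) _, h1,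
    dotProduct_comm (fun i => y (Sum.inr i))]

theorem levi_mem_G0 {F₀ : Subfield F} (A : GL (Fin m) F) (hA : A ∈ G0 (ι := Fin m) F₀) :
    levi A ∈ G0 (ι := Fin m ⊕ Fin m) F₀ := by
  apply mem_G0_of_ratMat
  have h1 := ratMat_of_mem_G0 hA
  have h2 := ratMat_inv_of_mem_G0 hA
  intro a b
  show (Matrix.fromBlocks (A : Matrix (Fin m) (Fin m) F) 0 0
    ((A⁻¹ : GL (Fin m) F) : Matrix (Fin m) (Fin m) F)ᵀ) a b ∈ F₀
  rcases a with a | a <;> rcases b with b | b
  · simpa using h1 a b
  · simp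
  · simp
  · simpa using h2 b a

/-- the projection of the stabiliser of the standard Lagrangian to `GL_m` -/
def leviProj (K : Subgroup GLm) : Subgroup (GL (Fin m) F) where
  carrier := {A | ∃ k ∈ K, ∀ x : Fin m → F,
    k.1 *ᵥ emb x = emb ((A : Matrix (Fin m) (Fin m) F) *ᵥ x)}
  one_mem' := ⟨1, K.one_mem, fun x => by simp⟩
  mul_mem' := by
    rintro A B ⟨k, hk, h1⟩ ⟨k', hk', h2⟩
    refine ⟨k * k', K.mul_mem hk hk', fun x => ?_⟩
    rw [gl_mul_act, h2, h1, Units.val_mul, Matrix.mulVec_mulVec]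
  inv_mem' := by
    rintro A ⟨k, hk, h1⟩
    refine ⟨k⁻¹, K.inv_mem hk, fun x => ?_⟩
    have h2 := h1 (((A⁻¹ : GL (Fin m) F) : Matrix (Fin m) (Fin m) F) *ᵥ x)
    rw [Matrix.mulVec_mulVec, ← Units.val_mul, mul_inv_cancel, Units.val_one,
      Matrix.one_mulVec] at h2
    rw [← h2, gl_inv_act]

theorem mem_leviProj {K : Subgroup GLm} {A : GL (Fin m) F} :
    A ∈ leviProj K ↔ ∃ k ∈ K, ∀ x : Fin m → F,
      k.1 *ᵥ emb x = emb ((A : Matrix (Fin m) (Fin m) F) *ᵥ x) := Iff.rfl

end Cfsg.Agent.Lib.Helper48.SpSub
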