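import Mathlib
import Cfsg.Prelude.Def_GeometricClasses
import Cfsg.Agent.Lib.Helper48.SpSub.Basic

set_option autoImplicit false
set_option linter.unusedSectionVars false
set_option linter.unusedVariables false
set_option linter.unusedSimpArgs false

/-! The rational case: transvections of `K` whose centre is orthogonal to a rational vector of the
standard Lagrangian have rational centre. -/

namespace Cfsg.Agent.Lib.Helper48.SpSub

open scoped MatrixGroups Matrix
open Matrix Cfsg.Agent.Lib.Helper18 Cfsg.Agent.Lib.Helper11.SpMax Cfsg.Agent.Lib.Helper48.Subfield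
open Cfsg.Agent.Lib.Helper95

variable {F : Type*} [Field F] {m : ℕ}

local notation "V" => (Fin m ⊕ Fin m → F)
local notation "ff" => Cfsg.sympForm m F
local notation "GLm" => Matrix.GeneralLinearGroup (Fin m ⊕ Fin m) F

/-- the standing hypotheses of the rational case -/
structure SpSetup (F₀ : Subfield F) (K : Subgroup (Matrix.GeneralLinearGroup (Fin m ⊕ Fin m) F)) :
    Prop where
  hm : 4 ≤ m
  hK : K ≤ Cfsg.spGL m F
  hK0 : ∀ g ∈ G0 (ι := Fin m ⊕ Fin m) F₀, g ∈ Cfsg.spGL m F → g ∈ K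
  hS : Setup F₀ (leviProj K ⊓ Cfsg.Geo.specialLinear (Fin m) F)

theorem tg_comm_rho (e z : V) (hz : ff z e = 0) (t : F) :
    tg m e t * rho e z = rho e z * tg m e t := by
  have hez : ff e z = 0 := by rw [sf_swap, hz, neg_zero]
  apply gl_ext
  intro x
  rw [gl_mul_act, gl_mul_act, rho_act e z hez, tg_act, tg_act, rho_act e z hez]
  simp only [sf_add_left, sf_add_right, sf_smul_left, sf_smul_right, sf_self, hz, hez,
    mul_zero, add_zero, zero_add]
  module

namespace SpSetup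

variable {F₀ : Subfield F} {K : Subgroup (Matrix.GeneralLinearGroup (Fin m ⊕ Fin m) F)}

theorem tg_rat_mem (S : SpSetup F₀ K) {v : V} (hv : Rat F₀ v) {c : F} (hc : c ∈ F₀) :
    tg m v c ∈ K :=
  S.hK0 _ (tg_mem_G0 hv hc) (tg_mem m v c)

theorem rho_rat_mem (S : SpSetup F₀ K) {a b : V} (ha : Rat F₀ a) (hb : Rat F₀ b) :
    rho a b ∈ K :=
  S.hK0 _ (rho_mem_G0 ha hb) (rho_mem a b)

/-- (R) coefficients of short root elements are rational -/
theorem coef_fb (S : SpSetup F₀ K) (i j : Fin m) (hij : i ≠ j) (μ t : F)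
    (h : rho (eb i) (μ • fb j) * tg m (eb i) t ∈ K) : μ ∈ F₀ := by
  have hmem : elemT i j hij (-μ) ∈ leviProj K ⊓ Cfsg.Geo.specialLinear (Fin m) F := by
    refine ⟨⟨_, h, fun x => ?_⟩, tvGL_mem_specialLinear _ _ _⟩
    have h0 : ff (eb i : V) (μ • fb j) = 0 := by
      have h00 : (eb i : V) (Sum.inl j) = 0 := by simp [eb, Pi.single_apply, Ne.symm hij]
      rw [sf_smul_right, sf_fb_right, h00, neg_zero, mul_zero]
    rw [gl_mul_act, tg_act, sf_eb_right, emb_inr, mul_zero, zero_smul, add_zero, rho_act _ _ h0,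
      sf_eb_right, emb_inr, zero_smul, add_zero, sf_smul_right, sf_fb_right, emb_inl]
    unfold elemT
    rw [tvGL_apply, single_dotProduct, emb_add, emb_smul, emb_single]
    congr 1
    congr 1
    ring
  have := S.hS.coeff_of_elemT i j hij (-μ) hmem
  simpa using F₀.neg_mem this

/-- conjugating by a rational transvection and dividing -/
theorem step (S : SpSetup F₀ K) (i : Fin m) (z : V) (hz : ff z (eb i) = 0) (t : F) (d : V)
    (hd : Rat F₀ d) (hde : ff d (eb i) = 0) (h : rho (eb i) z * tg m (eb i) t ∈ K) :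
    rho (eb i) (ff z d • d) * tg m (eb i) (-(ff z d * ff z d)) ∈ K := by
  have hT : tg m d (1 : F) ∈ K := S.tg_rat_mem hd F₀.one_mem
  have hTsp : tg m d (1 : F) ∈ Cfsg.spGL m F := tg_mem m d 1
  have hed : ff (eb i : V) d = 0 := by rw [sf_swap, hde, neg_zero]
  have h1 : tg m d 1 * (rho (eb i) z * tg m (eb i) t) * (tg m d 1)⁻¹ ∈ K :=
    K.mul_mem (K.mul_mem hT h) (K.inv_mem hT)
  have h2 : tg m d 1 * (rho (eb i) z * tg m (eb i) t) * (tg m d 1)⁻¹
      = (tg m d 1 * rho (eb i) z * (tg m d 1)⁻¹) * (tg m d 1 * tg m (eb i) t * (tg m d 1)⁻¹) := by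
    group
  rw [h2, conj_rho _ hTsp, conj_tg m _ hTsp, tg_act, tg_act, hed, mul_zero, zero_smul, add_zero,
    one_mul] at h1
  have hd' : ff (ff z d • d) (eb i) = 0 := by rw [sf_smul_left, hde, mul_zero]
  rw [rho_add (eb i) z (ff z d • d) hz hd', sf_smul_right] at h1
  have h3 := K.mul_mem h1 (K.inv_mem h)
  have h4 : rho (eb i) (ff z d • d) * tg m (eb i) (-(ff z d * ff z d)) * rho (eb i) z
      * tg m (eb i) t * (rho (eb i) z * tg m (eb i) t)⁻¹
      = rho (eb i) (ff z d • d) * tg m (eb i) (-(ff z d * ff z d)) := by group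
  rw [h4] at h3
  exact h3

/-- (Q) the coordinates of an element of the unipotent radical of the stabiliser of `e_i` -/
theorem coords_rat (S : SpSetup F₀ K) (i : Fin m) (z : V) (hz : ff z (eb i) = 0) (t : F)
    (h : rho (eb i) z * tg m (eb i) t ∈ K) (j : Fin m) (hij : i ≠ j) :
    z (Sum.inl j) ∈ F₀ ∧ z (Sum.inr j) ∈ F₀ := by
  have hfe : ff (fb j : V) (eb i) = 0 := by
    rw [sf_eb_right]; simp [fb, hij]
  have hee : ff (eb j : V) (eb i) = 0 := by
    rw [sf_eb_right]; simp [eb]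
  constructor
  · have h1 := S.step i z hz t (fb j) (rat_fb F₀ j) hfe h
    have h2 := S.coef_fb i j hij _ _ h1
    rw [sf_fb_right] at h2
    simpa using F₀.neg_mem h2
  · have h1 := S.step i z hz t (eb j) (rat_eb F₀ j) hee h
    have hz2 : ff (ff z (eb j) • (eb j : V)) (eb i) = 0 := by rw [sf_smul_left, hee, mul_zero]
    have h2 := S.step i _ hz2 _ (fb j) (rat_fb F₀ j) hfe h1
    have h3 := S.coef_fb i j hij _ _ h2
    rw [sf_smul_left, sf_fb_right, sf_eb_right] at h3
    have : (eb j : V) (Sum.inl j) = 1 := by simp [eb]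
    rw [this] at h3
    simpa using F₀.neg_mem h3

/-- (P1) a transvection of `K` whose centre is orthogonal to a basis vector `e_i` -/
theorem ratline_of_perp_eb (S : SpSetup F₀ K) (i : Fin m) (u : V) (c : F) (hc : c ≠ 0)
    (hu : ff u (eb i) = 0) (h : tg m u c ∈ K) : Ratline F₀ u := by
  have heu : ff (eb i : V) u = 0 := by rw [sf_swap, hu, neg_zero]
  have hτsp : tg m u c ∈ Cfsg.spGL m F := tg_mem m u c
  -- the commutator with a rational element of the radical
  have key : ∀ y : V, Rat F₀ y → ff y (eb i) = 0 → ∀ j, i ≠ j →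
      (c * ff y u) * u (Sum.inl j) ∈ F₀ ∧ (c * ff y u) * u (Sum.inr j) ∈ F₀ := by
    intro y hy hye j hij
    have hr : rho (eb i) y ∈ K := S.rho_rat_mem (rat_eb F₀ i) hy
    have h1 : tg m u c * rho (eb i) y * (tg m u c)⁻¹ * (rho (eb i) y)⁻¹ ∈ K :=
      K.mul_mem (K.mul_mem (K.mul_mem h hr) (K.inv_mem h)) (K.inv_mem hr)
    have hsu : ff ((c * ff y u) • u) (eb i) = 0 := by rw [sf_smul_left, hu, mul_zero]
    rw [conj_rho _ hτsp, tg_act, tg_act, heu, mul_zero, zero_smul, add_zero,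
      rho_add (eb i) y _ hye hsu] at h1
    have h2 : rho (eb i) ((c * ff y u) • u) * tg m (eb i) (-(ff y ((c * ff y u) • u)))
        * rho (eb i) y * (rho (eb i) y)⁻¹
        = rho (eb i) ((c * ff y u) • u) * tg m (eb i) (-(ff y ((c * ff y u) • u))) := by group
    rw [h2] at h1
    exact S.coords_rat i _ hsu _ h1 j hij
  -- products of coordinates
  have hP : ∀ j j', i ≠ j → i ≠ j' →
      (c * u (Sum.inl j') * u (Sum.inl j) ∈ F₀ ∧ c * u (Sum.inl j') * u (Sum.inr j) ∈ F₀) ∧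
      (c * u (Sum.inr j') * u (Sum.inl j) ∈ F₀ ∧ c * u (Sum.inr j') * u (Sum.inr j) ∈ F₀) := by
    intro j j' hij hij'
    have hfe : ff (fb j' : V) (eb i) = 0 := by
      rw [sf_eb_right]; simp [fb, hij']
    have hee : ff (eb j' : V) (eb i) = 0 := by
      rw [sf_eb_right]; simp [eb]
    have h1 := key (fb j') (rat_fb F₀ j') hfe j hij
    have h2 := key (eb j') (rat_eb F₀ j') hee j hij
    rw [sf_fb_left] at h1
    rw [sf_eb_left] at h2
    refine ⟨h1, ?_, ?_⟩
    · have := F₀.neg_mem h2.1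
      have e : -(c * -u (Sum.inr j') * u (Sum.inl j)) = c * u (Sum.inr j') * u (Sum.inl j) := by ring
      rwa [e] at this
    · have := F₀.neg_mem h2.2
      have e : -(c * -u (Sum.inr j') * u (Sum.inr j)) = c * u (Sum.inr j') * u (Sum.inr j) := by ring
      rwa [e] at this
  have hP' : ∀ a a' : Fin m ⊕ Fin m, a ≠ Sum.inl i → a ≠ Sum.inr i → a' ≠ Sum.inl i →
      a' ≠ Sum.inr i → c * u a' * u a ∈ F₀ := by
    intro a a' h1 h2 h3 h4
    rcases a with j | j <;> rcases a' with j' | j'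
    · exact ((hP j j' (fun e => h1 (by rw [e])) (fun e => h3 (by rw [e]))).1).1
    · exact ((hP j j' (fun e => h1 (by rw [e])) (fun e => h4 (by rw [e]))).2).1
    · exact ((hP j j' (fun e => h2 (by rw [e])) (fun e => h3 (by rw [e]))).1).2
    · exact ((hP j j' (fun e => h2 (by rw [e])) (fun e => h4 (by rw [e]))).2).2
  have hui : u (Sum.inr i) = 0 := (sf_eb_right u i).symm.trans hu
  by_cases hall : ∀ a : Fin m ⊕ Fin m, a ≠ Sum.inl i → a ≠ Sum.inr i → u a = 0
  · -- `u` is a multiple of `e_i`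
    have hu' : u = u (Sum.inl i) • (eb i : V) := by
      funext a
      by_cases h1 : a = Sum.inl i
      · subst h1; simp [eb]
      · by_cases h2 : a = Sum.inr i
        · subst h2; simp [eb, hui]
        · rw [hall a h1 h2]; simp [eb, Pi.single_apply, h1]
    obtain ⟨a, ha⟩ : ∃ a : F, u = a • (eb i : V) := ⟨_, hu'⟩
    by_cases h0 : a = 0
    · rw [ha, h0, zero_smul]; exact Ratline.of_rat (Subfield.Rat.zero F₀)
    · refine ⟨a⁻¹, inv_ne_zero h0, ?_⟩
      rw [ha, smul_smul, inv_mul_cancel₀ h0, one_smul]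
      exact rat_eb F₀ i
  · push Not at hall
    obtain ⟨a₀, ha1, ha2, ha0⟩ := hall
    set s₀ : F := c * u a₀ with hs₀
    have hs0 : s₀ ≠ 0 := mul_ne_zero hc ha0
    set t : F := s₀ * u (Sum.inl i) with ht
    set av : V := s₀ • u - t • (eb i : V) with hav
    have havr : Rat F₀ av := by
      intro a
      by_cases h1 : a = Sum.inl i
      · subst h1
        have : av (Sum.inl i) = 0 := by simp [hav, ht, eb]
        rw [this]; exact F₀.zero_mem
      · by_cases h2 : a = Sum.inr i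
        · subst h2
          have : av (Sum.inr i) = 0 := by simp [hav, eb, hui]
          rw [this]; exact F₀.zero_mem
        · have : av a = c * u a₀ * u a := by
            simp [hav, hs₀, eb, Pi.single_apply, h1]
          rw [this]
          exact hP' a a₀ h1 h2 ha1 ha2
    have hq : c * u a₀ * u a₀ ∈ F₀ := hP' a₀ a₀ ha1 ha2 ha1 ha2
    have hq0 : c * u a₀ * u a₀ ≠ 0 := mul_ne_zero (mul_ne_zero hc ha0) ha0
    set c' : F := (c * u a₀ * u a₀)⁻¹ with hc'
    have hc'r : c' ∈ F₀ := F₀.inv_mem hq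
    have hc'0 : c' ≠ 0 := inv_ne_zero hq0
    have hcc : s₀ * s₀ * c' = c := by
      rw [hc', hs₀]; field_simp
    have hsplit : s₀ • u = av + t • (eb i : V) := by rw [hav]; abel
    have have' : ff av (eb i) = 0 := by
      rw [hav, sf_sub_left, sf_smul_left, sf_smul_left, hu, sf_self, mul_zero, mul_zero, sub_zero]
    have havt : ff av (t • (eb i : V)) = 0 := by rw [sf_smul_right, have', mul_zero]
    have h1 : tg m (s₀ • u) c' ∈ K := by rw [tg_smul, hcc]; exact h
    rw [hsplit, tg_add_orth av _ havt, mul_assoc] at h1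
    have h2 : tg m av c' ∈ K := S.tg_rat_mem havr hc'r
    have h3 := K.mul_mem (K.inv_mem h2) h1
    have hza : ff ((c' * t) • av) (eb i) = 0 := by rw [sf_smul_left, have', mul_zero]
    rw [inv_mul_cancel_left, tg_smul, smul_smul, rho_smul av (eb i) have' (c' * t),
      rho_symm _ _ hza, tg_comm_rho _ _ hza] at h3
    -- the coordinate `a₀`
    have hcoord : ((c' * t) • av) a₀ ∈ F₀ := by
      rcases a₀ with j | j
      · exact (S.coords_rat i _ hza _ h3 j (fun e => ha1 (by rw [e]))).1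
      · exact (S.coords_rat i _ hza _ h3 j (fun e => ha2 (by rw [e]))).2
    have hava : av a₀ = c * u a₀ * u a₀ := by
      simp [hav, hs₀, eb, Pi.single_apply, ha1]
    rw [Pi.smul_apply, smul_eq_mul, hava] at hcoord
    have htr : t ∈ F₀ := by
      have h5 : t = (c' * t * (c * u a₀ * u a₀)) * (c * u a₀ * u a₀)⁻¹ * c'⁻¹ := by
        field_simp
      rw [h5]
      exact F₀.mul_mem (F₀.mul_mem hcoord (F₀.inv_mem hq)) (F₀.inv_mem hc'r)
    refine ⟨s₀, hs0, ?_⟩
    rw [hsplit]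
    exact Subfield.Rat.add havr (Subfield.Rat.smul htr (rat_eb F₀ i))

/-- (P) a transvection of `K` whose centre is orthogonal to a rational vector of the standard
Lagrangian -/
theorem ratline_of_perp_emb (S : SpSetup F₀ K) (u : V) (c : F) (hc : c ≠ 0) (s : Fin m → F)
    (hs : Rat F₀ s) (hs0 : s ≠ 0) (hperp : ff u (emb s) = 0) (h : tg m u c ∈ K) :
    Ratline F₀ u := by
  have hm := S.hm
  obtain ⟨i₀, j₀, hij⟩ : ∃ i j : Fin m, i ≠ j :=
    ⟨⟨0, by omega⟩, ⟨1, by omega⟩, by intro h; simpa using congrArg Fin.val h⟩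
  obtain ⟨g, hg0, hgSL, hgs⟩ := exists_rat_move F₀ i₀ j₀ hij s hs0 hs
  have hL0 : levi g ∈ G0 (ι := Fin m ⊕ Fin m) F₀ := levi_mem_G0 g hg0
  have hLsp : levi g ∈ Cfsg.spGL m F := levi_mem g
  have hLK : levi g ∈ K := S.hK0 _ hL0 hLsp
  have h1 : levi g * tg m u c * (levi g)⁻¹ ∈ K := K.mul_mem (K.mul_mem hLK h) (K.inv_mem hLK)
  rw [conj_tg m _ hLsp] at h1
  have h2 : ff ((levi g).1 *ᵥ u) (eb i₀) = 0 := by
    rw [← emb_single, ← hgs, ← levi_emb, (mem_spGL_iff m _).mp hLsp]
    exact hperp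
  obtain ⟨c₁, hc₁, hr⟩ := S.ratline_of_perp_eb i₀ _ c hc h2 h1
  refine ⟨c₁, hc₁, ?_⟩
  have h3 : c₁ • u = ((levi g)⁻¹).1 *ᵥ (c₁ • ((levi g).1 *ᵥ u)) := by
    rw [Matrix.mulVec_smul, gl_inv_act]
  rw [h3]
  exact RatMat.mulVec (ratMat_inv_of_mem_G0 hL0) hr

/-- (S) an element of `K` fixing the standard Lagrangian pointwise is rational -/
theorem rat_of_fix_emb (S : SpSetup F₀ K) (y : GLm) (hy : y ∈ K)
    (hfix : ∀ x : Fin m → F, y.1 *ᵥ emb x = emb x) : y ∈ G0 (ι := Fin m ⊕ Fin m) F₀ := by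
  have hm := S.hm
  have hysp : y ∈ Cfsg.spGL m F := S.hK hy
  apply mem_G0_of_ratMat
  apply ratMat_of_cols
  intro a
  rcases a with j | j
  · have : (Pi.single (Sum.inl j) 1 : V) = emb (Pi.single j 1) := by rw [emb_single]; rfl
    rw [this, hfix]
    exact rat_emb (Rat.single F₀ j F₀.one_mem)
  · show Rat F₀ (y.1 *ᵥ (fb j : V))
    obtain ⟨k, hkj⟩ : ∃ k : Fin m, k ≠ j := by
      by_cases h0 : j = ⟨0, by omega⟩
      · exact ⟨⟨1, by omega⟩, by rw [h0]; intro h; simpa using congrArg Fin.val h⟩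
      · exact ⟨⟨0, by omega⟩, fun h => h0 h.symm⟩
    have h1 : y * tg m (fb j) 1 * y⁻¹ ∈ K :=
      K.mul_mem (K.mul_mem hy (S.tg_rat_mem (rat_fb F₀ j) F₀.one_mem)) (K.inv_mem hy)
    rw [conj_tg m _ hysp] at h1
    have hfixe : ∀ l : Fin m, y.1 *ᵥ (eb l : V) = eb l := by
      intro l; rw [← emb_single, hfix]
    have h2 : ff (y.1 *ᵥ (fb j : V)) (eb k) = 0 := by
      conv_lhs => rw [← hfixe k]
      rw [(mem_spGL_iff m _).mp hysp, sf_eb_right]
      simp [fb, hkj]
    have h3 : ff (y.1 *ᵥ (fb j : V)) (eb j) = 1 := by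
      conv_lhs => rw [← hfixe j]
      rw [(mem_spGL_iff m _).mp hysp, sf_eb_right]
      simp [fb]
    obtain ⟨c₁, hc₁, hr⟩ := S.ratline_of_perp_eb k _ 1 one_ne_zero h2 h1
    have h4 := hr (Sum.inr j)
    rw [sf_eb_right] at h3
    rw [Pi.smul_apply, h3, smul_eq_mul, mul_one] at h4
    have h5 : y.1 *ᵥ (fb j : V) = c₁⁻¹ • (c₁ • (y.1 *ᵥ (fb j : V))) := by
      rw [smul_smul, inv_mul_cancel₀ hc₁, one_smul]
    rw [h5]
    exact Subfield.Rat.smul (F₀.inv_mem h4) hr

end SpSetup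

end Cfsg.Agent.Lib.Helper48.SpSub
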