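import Mathlib
import Cfsg.Prelude.Def_GeometricClasses
import Cfsg.Agent.Lib.Helper48.SpSub.Short
import Cfsg.Agent.Lib.Helper48.SpSub.Norm

set_option autoImplicit false
set_option linter.unusedSectionVars false
set_option linter.unusedVariables false
set_option linter.unusedSimpArgs false

/-! The general position case: a transvection of `K` whose centre is not orthogonal to any rational
vector of the standard Lagrangian would generate, with the rational unipotent radical, a Frobenius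
group with an elementary abelian complement. -/

namespace Cfsg.Agent.Lib.Helper48.SpSub

open scoped MatrixGroups Matrix
open Matrix Cfsg.Agent.Lib.Helper18 Cfsg.Agent.Lib.Helper11.SpMax Cfsg.Agent.Lib.Helper48.Subfield
open Cfsg.Agent.Lib.Helper95

variable {F : Type*} [Field F] {m : ℕ}

local notation "V" => (Fin m ⊕ Fin m → F)
local notation "ff" => Cfsg.sympForm m F
local notation "GLm" => Matrix.GeneralLinearGroup (Fin m ⊕ Fin m) F

theorem emb_neg (x : Fin m → F) : emb (-x) = -(emb x : V) := by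
  funext a; rcases a with a | a <;> simp [emb]

/-- invertible matrices moving every vector inside `E + F u` -/
def zSub (u : V) : Subgroup (Matrix.GeneralLinearGroup (Fin m ⊕ Fin m) F) where
  carrier := {y | ∀ x : V, ∃ (e : Fin m → F) (l : F), y.1 *ᵥ x - x = emb e + l • u}
  one_mem' := fun x => ⟨0, 0, by simp [emb_zero]⟩
  mul_mem' := by
    rintro a b ha hb x
    obtain ⟨e1, l1, h1⟩ := hb x
    obtain ⟨e2, l2, h2⟩ := ha (b.1 *ᵥ x)
    refine ⟨e1 + e2, l1 + l2, ?_⟩
    have : a.1 *ᵥ (b.1 *ᵥ x) - x = (a.1 *ᵥ (b.1 *ᵥ x) - b.1 *ᵥ x) + (b.1 *ᵥ x - x) := by abel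
    rw [gl_mul_act, emb_add, add_smul, this, h1, h2]
    abel
  inv_mem' := by
    rintro a ha x
    obtain ⟨e1, l1, h1⟩ := ha (a⁻¹.1 *ᵥ x)
    rw [gl_act_inv] at h1
    refine ⟨-e1, -l1, ?_⟩
    have : a⁻¹.1 *ᵥ x - x = -(x - a⁻¹.1 *ᵥ x) := by abel
    rw [this, h1, emb_neg, neg_smul]
    abel

theorem mem_zSub {u : V} {y : GLm} :
    y ∈ zSub u ↔ ∀ x : V, ∃ (e : Fin m → F) (l : F), y.1 *ᵥ x - x = emb e + l • u := Iff.rfl

/-- the rational symplectic matrices fixing the standard Lagrangian pointwise -/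
def cSub (F₀ : Subfield F) : Subgroup (Matrix.GeneralLinearGroup (Fin m ⊕ Fin m) F) where
  carrier := {y | y ∈ G0 (ι := Fin m ⊕ Fin m) F₀ ∧ y ∈ Cfsg.spGL m F ∧
    ∀ x : Fin m → F, y.1 *ᵥ emb x = emb x}
  one_mem' := ⟨Subgroup.one_mem _, Subgroup.one_mem _, fun x => by simp⟩
  mul_mem' := by
    rintro a b ⟨ha1, ha2, ha3⟩ ⟨hb1, hb2, hb3⟩
    exact ⟨Subgroup.mul_mem _ ha1 hb1, Subgroup.mul_mem _ ha2 hb2, fun x => by
      rw [gl_mul_act, hb3, ha3]⟩
  inv_mem' := by
    rintro a ⟨ha1, ha2, ha3⟩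
    refine ⟨Subgroup.inv_mem _ ha1, Subgroup.inv_mem _ ha2, fun x => ?_⟩
    have := gl_inv_act m a (emb x)
    rw [ha3] at this
    exact this

theorem mem_cSub {F₀ : Subfield F} {y : GLm} :
    y ∈ cSub F₀ ↔ y ∈ G0 (ι := Fin m ⊕ Fin m) F₀ ∧ y ∈ Cfsg.spGL m F ∧
      ∀ x : Fin m → F, y.1 *ᵥ emb x = emb x := Iff.rfl

/-- a symplectic matrix fixing the Lagrangian pointwise moves every vector inside it -/
theorem fix_sub_emb (y : GLm) (hy : y ∈ Cfsg.spGL m F)
    (hfix : ∀ x : Fin m → F, y.1 *ᵥ emb x = emb x) (v : V) :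
    ∃ e : Fin m → F, y.1 *ᵥ v - v = emb e := by
  refine ⟨_, eq_emb_of_inr_zero _ (inr_zero_of_perp _ (fun x => ?_))⟩
  rw [sf_sub_left]
  conv_lhs => rw [← hfix x]
  rw [(mem_spGL_iff m y).mp hy, hfix, sub_self]

theorem fix_inr (y : GLm) (hy : y ∈ Cfsg.spGL m F)
    (hfix : ∀ x : Fin m → F, y.1 *ᵥ emb x = emb x) (v : V) (i : Fin m) :
    (y.1 *ᵥ v) (Sum.inr i) = v (Sum.inr i) := by
  obtain ⟨e, he⟩ := fix_sub_emb y hy hfix v
  have := congrFun he (Sum.inr i)
  simp only [Pi.sub_apply, emb_inr] at this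
  exact sub_eq_zero.mp this

theorem fix_pow (y : GLm) (hy : y ∈ Cfsg.spGL m F)
    (hfix : ∀ x : Fin m → F, y.1 *ᵥ emb x = emb x) (v : V) (n : ℕ) :
    (y ^ n).1 *ᵥ v = v + (n : F) • (y.1 *ᵥ v - v) := by
  obtain ⟨e, he⟩ := fix_sub_emb y hy hfix v
  induction n with
  | zero => simp
  | succ n ih =>
    rw [pow_succ', gl_mul_act, ih, Matrix.mulVec_add, Matrix.mulVec_smul, he, hfix, Nat.cast_succ,
      add_smul, one_smul, ← he]
    abel

/-- the entries of the first half of the image -/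
theorem fix_inl (y : GLm) (hfix : ∀ x : Fin m → F, y.1 *ᵥ emb x = emb x) (v : V) (i : Fin m) :
    (y.1 *ᵥ v) (Sum.inl i)
      = v (Sum.inl i) + (fun j => y.1 (Sum.inl i) (Sum.inr j)) ⬝ᵥ (fun j => v (Sum.inr j)) := by
  have hent : ∀ j : Fin m, y.1 (Sum.inl i) (Sum.inl j) = if i = j then 1 else 0 := by
    intro j
    have h1 := congrFun (hfix (Pi.single j 1)) (Sum.inl i)
    rw [emb_single] at h1
    unfold eb at h1
    rw [Matrix.mulVec_single_one] at h1
    rw [Matrix.col_apply] at h1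
    rw [h1, Pi.single_apply]
    by_cases h : i = j
    · subst h; simp
    · have : (Sum.inl i : Fin m ⊕ Fin m) ≠ Sum.inl j := fun e => h (Sum.inl.inj e)
      rw [if_neg this, if_neg h]
  show (fun a => y.1 (Sum.inl i) a) ⬝ᵥ v = _
  rw [dotProduct, Fintype.sum_sum_type]
  simp only [hent, ite_mul, one_mul, zero_mul, Finset.sum_ite_eq, Finset.mem_univ, if_true]
  rfl

/-- general position of a vector with respect to the rational structure on the Lagrangian -/
def GenPos (F₀ : Subfield F) (u : V) : Prop :=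
  ∀ s : Fin m → F, Rat F₀ s → s ≠ 0 → s ⬝ᵥ (fun i => u (Sum.inr i)) ≠ 0

/-- a rational element of the radical fixing a vector in general position is trivial -/
theorem eq_one_of_fix_genPos {F₀ : Subfield F} (x : GLm) (hx : x ∈ cSub F₀) (u : V)
    (hGP : GenPos F₀ u) (hxu : x.1 *ᵥ u = u) : x = 1 := by
  obtain ⟨hx1, hx2, hx3⟩ := hx
  have hrow : ∀ i j : Fin m, x.1 (Sum.inl i) (Sum.inr j) = 0 := by
    intro i
    by_contra hcon
    push Not at hcon
    obtain ⟨j, hj⟩ := hcon
    have h1 := fix_inl x hx3 u i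
    rw [hxu] at h1
    have h2 : (fun j => x.1 (Sum.inl i) (Sum.inr j)) ⬝ᵥ (fun j => u (Sum.inr j)) = 0 := by
      have := h1
      linear_combination -this
    refine hGP _ (fun j => ratMat_of_mem_G0 hx1 _ _) ?_ h2
    intro h0
    exact hj (congrFun h0 j)
  apply gl_ext
  intro v
  rw [Units.val_one, Matrix.one_mulVec]
  funext a
  rcases a with i | i
  · rw [fix_inl x hx3 v i]
    have : (fun j => x.1 (Sum.inl i) (Sum.inr j)) = 0 := funext (hrow i)
    rw [this, zero_dotProduct, add_zero]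
  · exact fix_inr x hx2 hx3 v i

/-- a matrix, rational up to a scalar, fixing pointwise the kernel of a functional in general
position is the identity -/
theorem eq_one_of_ratUpTo_fix_ker {F₀ : Subfield F} (hm : 3 ≤ m) (A : GL (Fin m) F)
    (hA : A ∈ ratUpTo (ι := Fin m) F₀) (η : Fin m → F)
    (hη : ∀ s : Fin m → F, Rat F₀ s → s ≠ 0 → s ⬝ᵥ η ≠ 0)
    (hfix : ∀ x : Fin m → F, η ⬝ᵥ x = 0 → A.1 *ᵥ x = x) : A = 1 := by
  obtain ⟨c, hc, hM⟩ := hA
  set M : Matrix (Fin m) (Fin m) F := c • A.1 with hMdef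
  have hcard : 3 ≤ Fintype.card (Fin m) := by rw [Fintype.card_fin]; exact hm
  have hη0 : ∀ j, η j ≠ 0 := by
    intro j
    have := hη (Pi.single j 1) (Rat.single F₀ j F₀.one_mem) (by
      intro h0
      have := congrFun h0 j
      simp at this)
    rwa [single_dotProduct, one_mul] at this
  -- the basic relation
  have hrel : ∀ i j j' : Fin m, η j' * M i j - η j * M i j'
      = c * (η j' * (if i = j then 1 else 0) - η j * (if i = j' then 1 else 0)) := by
    intro i j j'
    have hx : η ⬝ᵥ (η j' • (Pi.single j 1 : Fin m → F) - η j • (Pi.single j' 1 : Fin m → F)) = 0 := by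
      rw [dotProduct_sub, dotProduct_smul, dotProduct_smul, dotProduct_single, dotProduct_single]
      simp only [smul_eq_mul, mul_one]
      ring
    have h1 := hfix _ hx
    have h2 : c • (A.1 *ᵥ (η j' • (Pi.single j 1 : Fin m → F) - η j • (Pi.single j' 1 : Fin m → F)))
        = c • (η j' • (Pi.single j 1 : Fin m → F) - η j • (Pi.single j' 1 : Fin m → F)) := by
      rw [h1]
    rw [← Matrix.smul_mulVec, ← hMdef, Matrix.mulVec_sub, Matrix.mulVec_smul, Matrix.mulVec_smul,
      Matrix.mulVec_single_one, Matrix.mulVec_single_one] at h2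
    have h3 := congrFun h2 i
    simp only [Pi.sub_apply, Pi.smul_apply, Matrix.col_apply, smul_eq_mul, Pi.single_apply] at h3
    rw [h3]
  have hoff : ∀ i j : Fin m, i ≠ j → M i j = 0 := by
    intro i j hij
    obtain ⟨j', hj'i, hj'j⟩ := exists_third hcard i j
    have h1 := hrel i j j'
    rw [if_neg hij, if_neg (fun e => hj'i e.symm)] at h1
    set s : Fin m → F := M i j • (Pi.single j' 1 : Fin m → F) - M i j' • (Pi.single j 1 : Fin m → F)
      with hs
    have hsr : Rat F₀ s :=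
      Subfield.Rat.sub (Subfield.Rat.smul (hM i j) (Rat.single F₀ j' F₀.one_mem))
        (Subfield.Rat.smul (hM i j') (Rat.single F₀ j F₀.one_mem))
    have hsη : s ⬝ᵥ η = 0 := by
      rw [hs, sub_dotProduct, smul_dotProduct, smul_dotProduct, single_dotProduct,
        single_dotProduct]
      simp only [smul_eq_mul, one_mul]
      linear_combination h1
    by_contra hne
    refine hη s hsr ?_ hsη
    intro h0
    have := congrFun h0 j'
    simp [hs, hj'j, hne] at this
  have hdiag : ∀ j : Fin m, M j j = c := by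
    intro j
    obtain ⟨j', hj'j, -⟩ := exists_third hcard j j
    have h1 := hrel j j j'
    rw [if_pos rfl, if_neg (fun e => hj'j e.symm), hoff j j' (fun e => hj'j e.symm)] at h1
    have h2 : η j' * (M j j - c) = 0 := by linear_combination h1
    rcases mul_eq_zero.mp h2 with h | h
    · exact absurd h (hη0 j')
    · exact sub_eq_zero.mp h
  apply Units.ext
  rw [Units.val_one]
  ext i j
  have h1 : c * A.1 i j = M i j := by rw [hMdef]; rfl
  by_cases hij : i = j
  · subst hij
    rw [Matrix.one_apply_eq]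
    have := hdiag i
    rw [← h1] at this
    exact mul_left_cancel₀ hc (by rw [this, mul_one])
  · rw [Matrix.one_apply_ne hij]
    have := hoff i j hij
    rw [← h1] at this
    rcases mul_eq_zero.mp this with h | h
    · exact absurd h hc
    · exact h

/-- a symplectic matrix in `zSub u` fixes every vector orthogonal to the Lagrangian and to `u` -/
theorem zSub_fix (y : GLm) (hy : y ∈ Cfsg.spGL m F) (u : V) (hyZ : y ∈ zSub u) (w : V)
    (hwE : ∀ e : Fin m → F, ff w (emb e) = 0) (hwu : ff w u = 0) : y.1 *ᵥ w = w := by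
  by_contra hne
  have hne' : y.1 *ᵥ w - w ≠ 0 := sub_ne_zero.mpr hne
  obtain ⟨v', hv'⟩ := sf_nondeg_top m _ hne'
  apply hv'
  set v : V := y⁻¹.1 *ᵥ v' with hv
  have hyv : y.1 *ᵥ v = v' := by rw [hv, gl_act_inv]
  obtain ⟨e, l, hel⟩ := hyZ v
  have h1 : ff w (y.1 *ᵥ v) = ff w v := by
    have : y.1 *ᵥ v = v + (emb e + l • u) := by rw [← hel]; abel
    rw [this, sf_add_right, sf_add_right, sf_smul_right, hwE, hwu, mul_zero, add_zero, add_zero]
  rw [← hyv, sf_sub_left, (mem_spGL_iff m y).mp hy, h1, sub_self]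

namespace SpSetup

variable {F₀ : Subfield F} {K : Subgroup (Matrix.GeneralLinearGroup (Fin m ⊕ Fin m) F)}

/-- the stabiliser of the Lagrangian in `K ⊓ zSub u` is the rational radical -/
theorem stab_mem_cSub [Finite F] (S : SpSetup F₀ K) (u : V) (hGP : GenPos F₀ u) (y : GLm)
    (hyK : y ∈ K) (hyZ : y ∈ zSub u)
    (hstab : ∀ x : Fin m → F, ∃ x' : Fin m → F, y.1 *ᵥ emb x = emb x') : y ∈ cSub F₀ := by
  have hm := S.hm
  have hysp : y ∈ Cfsg.spGL m F := S.hK hyK
  set A₀ : Matrix (Fin m) (Fin m) F := fun i j => y.1 (Sum.inl i) (Sum.inl j) with hA₀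
  have hA₀act : ∀ x : Fin m → F, y.1 *ᵥ emb x = emb (A₀ *ᵥ x) := by
    intro x
    obtain ⟨x', hx'⟩ := hstab x
    rw [hx']
    congr 1
    funext i
    have h1 := congrFun hx' (Sum.inl i)
    rw [emb_inl] at h1
    rw [← h1]
    show (fun a => y.1 (Sum.inl i) a) ⬝ᵥ emb x = _
    rw [dotProduct, Fintype.sum_sum_type]
    simp only [emb_inl, emb_inr, mul_zero, Finset.sum_const_zero, add_zero]
    rfl
  have hinj : Function.Injective A₀.mulVec := by
    intro x x' hxx
    have h1 : y.1 *ᵥ emb x = y.1 *ᵥ emb x' := by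
      rw [hA₀act, hA₀act]
      exact congrArg emb hxx
    have h2 := congrArg (fun z => y⁻¹.1 *ᵥ z) h1
    simp only [gl_inv_act] at h2
    exact emb_injective h2
  have hunit : IsUnit A₀ := Matrix.mulVec_injective_iff_isUnit.mp hinj
  set A : GL (Fin m) F := hunit.unit with hA
  have hAval : (A : Matrix (Fin m) (Fin m) F) = A₀ := IsUnit.unit_spec hunit
  have hAX : A ∈ leviProj K := ⟨y, hyK, fun x => by rw [hAval]; exact hA₀act x⟩
  -- `A` normalises the special part of the Levi projection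
  have hnorm : ∀ k ∈ leviProj K ⊓ Cfsg.Geo.specialLinear (Fin m) F,
      A * k * A⁻¹ ∈ leviProj K ⊓ Cfsg.Geo.specialLinear (Fin m) F := by
    intro k hk
    refine ⟨Subgroup.mul_mem _ (Subgroup.mul_mem _ hAX hk.1) (Subgroup.inv_mem _ hAX), ?_⟩
    have hn : (Cfsg.Geo.specialLinear (Fin m) F).Normal := by
      unfold Cfsg.Geo.specialLinear
      infer_instance
    exact hn.conj_mem k hk.2 A
  have hArat : A ∈ ratUpTo (ι := Fin m) F₀ := S.hS.mem_ratUpTo_of_normalizes A hnorm
  -- `A` fixes the kernel of the functional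
  have hAfix : ∀ x : Fin m → F, (fun i => u (Sum.inr i)) ⬝ᵥ x = 0 → A.1 *ᵥ x = x := by
    intro x hx
    have h1 : y.1 *ᵥ emb x = emb x := by
      apply zSub_fix y hysp u hyZ
      · intro e; exact sf_emb_emb x e
      · rw [sf_emb_left, dotProduct_comm, hx, neg_zero]
    rw [hA₀act] at h1
    have := emb_injective h1
    rw [hAval]; exact this
  have hA1 : A = 1 := eq_one_of_ratUpTo_fix_ker (by omega) A hArat _
    (fun s hs hs0 => hGP s hs hs0) hAfix
  have hfix : ∀ x : Fin m → F, y.1 *ᵥ emb x = emb x := by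
    intro x
    rw [hA₀act, ← hAval, hA1, Units.val_one, Matrix.one_mulVec]
  exact ⟨S.rat_of_fix_emb y hyK hfix, hysp, hfix⟩

/-- (general position) no transvection of `K` has its centre in general position -/
theorem no_genPos [Finite F] (S : SpSetup F₀ K) (u : V) (c : F) (hc : c ≠ 0)
    (hGP : GenPos F₀ u) (hτ : tg m u c ∈ K) : False := by
  have hm := S.hm
  set i₀ : Fin m := ⟨0, by omega⟩ with hi₀
  set j₀ : Fin m := ⟨1, by omega⟩ with hj₀
  have hij : i₀ ≠ j₀ := by
    intro h; simpa [hi₀, hj₀] using congrArg Fin.val h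
  have hui : ∀ i : Fin m, u (Sum.inr i) ≠ 0 := by
    intro i
    have := hGP (Pi.single i 1) (Rat.single F₀ i F₀.one_mem) (by
      intro h0
      have := congrFun h0 i
      simp at this)
    rwa [single_dotProduct, one_mul] at this
  have hu0 : u ≠ 0 := by
    intro h0
    exact hui i₀ (by rw [h0]; rfl)
  have htgC : ∀ (i : Fin m) (a : F), a ∈ F₀ → tg m (eb i) a ∈ cSub F₀ := by
    intro i a ha
    refine ⟨tg_mem_G0 (rat_eb F₀ i) ha, tg_mem m _ _, fun x => ?_⟩
    rw [tg_act, sf_eb_right, emb_inr, mul_zero, zero_smul, add_zero]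
  have hCY : cSub F₀ ≤ K ⊓ zSub u := by
    intro y hy
    refine ⟨S.hK0 _ hy.1 hy.2.1, fun x => ?_⟩
    obtain ⟨e, he⟩ := fix_sub_emb y hy.2.1 hy.2.2 x
    exact ⟨e, 0, by rw [he, zero_smul, add_zero]⟩
  have hτY : tg m u c ∈ K ⊓ zSub u := by
    refine ⟨hτ, fun x => ⟨0, c * ff x u, ?_⟩⟩
    rw [tg_act, emb_zero, zero_add]
    abel
  have hτC : tg m u c ∉ cSub F₀ := by
    rintro ⟨-, -, h3⟩
    have h4 := h3 (Pi.single i₀ 1)
    rw [emb_single, tg_act, sf_eb_left] at h4
    have h5 : (c * -u (Sum.inr i₀)) • u = 0 := by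
      have := h4
      exact add_left_cancel (a := (eb i₀ : V)) (by rw [this, add_zero])
    rcases smul_eq_zero.mp h5 with h | h
    · rcases mul_eq_zero.mp h with h | h
      · exact hc h
      · exact hui i₀ (neg_eq_zero.mp h)
    · exact hu0 h
  have hCne : cSub (m := m) F₀ ≠ ⊥ := by
    intro hbot
    have h1 : tg m (eb i₀) (1 : F) ∈ cSub F₀ := htgC i₀ 1 F₀.one_mem
    rw [hbot, Subgroup.mem_bot] at h1
    have h2 := congrArg (fun g : GLm => g.1 *ᵥ (fb i₀ : V)) h1
    simp only [Units.val_one, Matrix.one_mulVec] at h2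
    rw [tg_act, sf_fb_left] at h2
    have h3 := congrFun h2 (Sum.inl i₀)
    simp [eb, fb] at h3
  have hTI : ∀ g ∈ K ⊓ zSub u, g ∉ cSub F₀ → ∀ x ∈ cSub F₀, g * x * g⁻¹ ∈ cSub F₀ → x = 1 := by
    rintro g ⟨hgK, hgZ⟩ hgC x hxC hconj
    by_contra hne
    apply hgC
    have hginvZ : g⁻¹ ∈ zSub u := Subgroup.inv_mem _ hgZ
    have hstab : ∀ e : Fin m → F, ∃ e' : Fin m → F, g⁻¹.1 *ᵥ emb e = emb e' := by
      intro e
      obtain ⟨e', l, hel⟩ := hginvZ (emb e)
      have hw : g⁻¹.1 *ᵥ emb e = emb (e + e') + l • u := by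
        rw [emb_add, add_assoc, ← hel]; abel
      by_cases hl : l = 0
      · exact ⟨e + e', by rw [hw, hl, zero_smul, add_zero]⟩
      · exfalso
        apply hne
        apply eq_one_of_fix_genPos x hxC u hGP
        have h1 := hconj.2.2 e
        rw [gl_mul_act, gl_mul_act] at h1
        have h2 := congrArg (fun z => g⁻¹.1 *ᵥ z) h1
        simp only [gl_inv_act] at h2
        rw [hw, Matrix.mulVec_add, Matrix.mulVec_smul, hxC.2.2] at h2
        have h3 : l • (x.1 *ᵥ u) = l • u := add_left_cancel h2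
        have h4 := congrArg (fun z => l⁻¹ • z) h3
        simp only [smul_smul, inv_mul_cancel₀ hl, one_smul] at h4
        exact h4
    have := S.stab_mem_cSub u hGP g⁻¹ (K.inv_mem hgK) hginvZ hstab
    have h2 := Subgroup.inv_mem _ this
    rwa [inv_inv] at h2
  have hFrob := isFrobeniusComplement_subgroupOf (K ⊓ zSub u) (cSub F₀) hCY hCne _ hτY hτC hTI
  obtain ⟨p, hchar⟩ := CharP.exists F
  have := hchar
  have : Fact p.Prime := ⟨CharP.char_is_prime F p⟩
  have hp0 : (p : F) = 0 := CharP.cast_eq_zero F p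
  have hexp : ∀ x ∈ (cSub F₀).subgroupOf (K ⊓ zSub u), x ^ p = 1 := by
    intro x hx
    rw [Subgroup.mem_subgroupOf] at hx
    apply Subtype.ext
    rw [Subgroup.coe_pow, Subgroup.coe_one]
    apply gl_ext
    intro v
    rw [fix_pow _ hx.2.1 hx.2.2, hp0, zero_smul, add_zero, Units.val_one, Matrix.one_mulVec]
  have hcard : p < Nat.card ((cSub F₀).subgroupOf (K ⊓ zSub u)) := by
    rw [Nat.card_congr (Subgroup.subgroupOfEquivOfLe hCY).toEquiv]
    let fn : Fin p × Fin p → cSub (m := m) F₀ := fun ab =>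
      ⟨tg m (eb i₀) ((ab.1 : ℕ) : F) * tg m (eb j₀) ((ab.2 : ℕ) : F),
        Subgroup.mul_mem _ (htgC i₀ _ (natCast_mem F₀ _)) (htgC j₀ _ (natCast_mem F₀ _))⟩
    have hinj : Function.Injective fn := by
      rintro ⟨a, b⟩ ⟨a', b'⟩ hab
      have h1 := congrArg Subtype.val hab
      simp only [fn] at h1
      have e1 : ∀ (s t : F), (tg m (eb i₀) s * tg m (eb j₀) t).1 *ᵥ (fb i₀ : V)
          = fb i₀ + s • eb i₀ := by
        intro s t
        have hin : (tg m (eb j₀) t).1 *ᵥ (fb i₀ : V) = fb i₀ := by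
          rw [tg_act, sf_fb_left]
          have : (eb j₀ : V) (Sum.inl i₀) = 0 := by simp [eb, Pi.single_apply, hij]
          rw [this, mul_zero, zero_smul, add_zero]
        rw [gl_mul_act, hin, tg_act, sf_fb_left]
        have : (eb i₀ : V) (Sum.inl i₀) = 1 := by simp [eb]
        rw [this, mul_one]
      have e2 : ∀ (s t : F), (tg m (eb i₀) s * tg m (eb j₀) t).1 *ᵥ (fb j₀ : V)
          = fb j₀ + t • eb j₀ := by
        intro s t
        have hin : (tg m (eb j₀) t).1 *ᵥ (fb j₀ : V) = fb j₀ + t • eb j₀ := by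
          rw [tg_act, sf_fb_left]
          have : (eb j₀ : V) (Sum.inl j₀) = 1 := by simp [eb]
          rw [this, mul_one]
        rw [gl_mul_act, hin, tg_act, sf_eb_right]
        have : ((fb j₀ : V) + t • (eb j₀ : V)) (Sum.inr i₀) = 0 := by
          simp [eb, fb, Pi.single_apply, hij]
        rw [this, mul_zero, zero_smul, add_zero]
      have h2 := congrArg (fun g : GLm => (g.1 *ᵥ (fb i₀ : V)) (Sum.inl i₀)) h1
      have h3 := congrArg (fun g : GLm => (g.1 *ᵥ (fb j₀ : V)) (Sum.inl j₀)) h1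
      simp only [e1, e2] at h2 h3
      simp [eb, fb] at h2 h3
      have h5 := (CharP.natCast_eq_natCast F p).mp h2
      have h6 := (CharP.natCast_eq_natCast F p).mp h3
      have h7 := Nat.ModEq.eq_of_lt_of_lt h5 a.2 a'.2
      have h8 := Nat.ModEq.eq_of_lt_of_lt h6 b.2 b'.2
      exact Prod.ext (Fin.ext h7) (Fin.ext h8)
    have h1 := Nat.card_le_card_of_injective fn hinj
    rw [Nat.card_prod, Nat.card_eq_fintype_card, Fintype.card_fin] at h1
    have hp2 : 2 ≤ p := (Fact.out : p.Prime).two_le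
    nlinarith
  exact no_elementary_frobenius_complement _ hFrob p hexp hcard

end SpSetup

end Cfsg.Agent.Lib.Helper48.SpSub
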