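import Mathlib
import Cfsg.Prelude.Def_GeometricClasses
import Cfsg.Agent.Lib.Helper48.SpSub.Basic

set_option autoImplicit false
set_option linter.unusedSectionVars false
set_option linter.unusedVariables false
set_option linter.unusedSimpArgs false

/-! If the Levi projection of `K` contains `SL_m(F)` then `K` is the whole symplectic group. -/

namespace Cfsg.Agent.Lib.Helper48.SpSub

open scoped MatrixGroups Matrix
open Matrix Cfsg.Agent.Lib.Helper18 Cfsg.Agent.Lib.Helper11.SpMax Cfsg.Agent.Lib.Helper48.Subfield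

variable {F : Type*} [Field F] {m : ℕ}

local notation "V" => (Fin m ⊕ Fin m → F)
local notation "ff" => Cfsg.sympForm m F
local notation "GLm" => Matrix.GeneralLinearGroup (Fin m ⊕ Fin m) F

/-- every element of a finite field is a sum of two squares -/
theorem exists_sq_add_sq [Fintype F] (x : F) : ∃ a b : F, a * a + b * b = x := by
  by_cases h : ringChar F = 2
  · obtain ⟨a, ha⟩ := FiniteField.isSquare_of_char_two h x
    exact ⟨a, 0, by rw [ha]; ring⟩
  · have hodd := FiniteField.odd_card_of_char_ne_two h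
    obtain ⟨a, b, hab⟩ := FiniteField.exists_root_sum_quadratic (R := F)
      (f := Polynomial.X ^ 2) (g := Polynomial.X ^ 2 - Polynomial.C x)
      (Polynomial.degree_X_pow 2) (Polynomial.degree_X_pow_sub_C (by decide) _) hodd
    refine ⟨a, b, ?_⟩
    simp only [Polynomial.eval_pow, Polynomial.eval_X, Polynomial.eval_sub, Polynomial.eval_C] at hab
    linear_combination hab

section

variable [Fintype F] (K : Subgroup (Matrix.GeneralLinearGroup (Fin m ⊕ Fin m) F))
  (hK : K ≤ Cfsg.spGL m F)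
  (hX : Cfsg.Geo.specialLinear (Fin m) F ≤ leviProj K)

include hK hX in
/-- the basis vector `e_i` is the centre of a full transvection group in `K` -/
theorem eb_mem_XS (hK1 : ∀ i : Fin m, tg m (eb i) (1 : F) ∈ K) (i₀ j₀ : Fin m) (hij : i₀ ≠ j₀) :
    (eb i₀ : V) ∈ XS m K := by
  have hsq : ∀ t : F, tg m (eb i₀) (t * t) ∈ K := by
    intro t
    by_cases ht : t = 0
    · rw [ht, mul_zero, tg_zero]; exact K.one_mem
    · have hv : (t • (Pi.single i₀ 1 : Fin m → F)) ≠ 0 := by
        intro h0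
        have := congrFun h0 i₀
        simp [ht] at this
      obtain ⟨g, hg, hgv⟩ := exists_SL_move i₀ j₀ hij (t • (Pi.single i₀ 1 : Fin m → F)) hv
      have hA : g⁻¹ ∈ leviProj K := hX ((Cfsg.Geo.specialLinear (Fin m) F).inv_mem hg)
      obtain ⟨k, hk, hk1⟩ := hA
      have h1 := hk1 (Pi.single i₀ 1)
      have h2 : ((g⁻¹ : GL (Fin m) F) : Matrix (Fin m) (Fin m) F) *ᵥ (Pi.single i₀ 1)
          = t • (Pi.single i₀ 1 : Fin m → F) := by
        have := congrArg (fun x => ((g⁻¹ : GL (Fin m) F) : Matrix (Fin m) (Fin m) F) *ᵥ x) hgv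
        simp only [Matrix.mulVec_mulVec, ← Units.val_mul, inv_mul_cancel, Units.val_one,
          Matrix.one_mulVec] at this
        exact this.symm
      rw [h2, emb_smul, emb_single] at h1
      have h3 : k * tg m (eb i₀) 1 * k⁻¹ ∈ K := K.mul_mem (K.mul_mem hk (hK1 i₀)) (K.inv_mem hk)
      rw [conj_tg m k (hK hk), h1, tg_smul, mul_one] at h3
      exact h3
  intro c
  obtain ⟨a, b, hab⟩ := exists_sq_add_sq c
  rw [← hab, ← tg_mul]
  exact K.mul_mem (hsq a) (hsq b)

include hK hX in
/-- all nonzero vectors of the standard Lagrangian are centres of full transvection groups -/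
theorem emb_mem_XS (hK1 : ∀ i : Fin m, tg m (eb i) (1 : F) ∈ K) (i₀ j₀ : Fin m) (hij : i₀ ≠ j₀)
    (y : Fin m → F) : (emb y : V) ∈ XS m K := by
  by_cases hy : y = 0
  · rw [hy, emb_zero]; exact XS_zero m K
  · obtain ⟨g, hg, hgv⟩ := exists_SL_move i₀ j₀ hij y hy
    obtain ⟨k, hk, hk1⟩ := hX ((Cfsg.Geo.specialLinear (Fin m) F).inv_mem hg)
    have h1 := hk1 (Pi.single i₀ 1)
    have h2 : ((g⁻¹ : GL (Fin m) F) : Matrix (Fin m) (Fin m) F) *ᵥ (Pi.single i₀ 1) = y := by
      have := congrArg (fun x => ((g⁻¹ : GL (Fin m) F) : Matrix (Fin m) (Fin m) F) *ᵥ x) hgv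
      simp only [Matrix.mulVec_mulVec, ← Units.val_mul, inv_mul_cancel, Units.val_one,
        Matrix.one_mulVec] at this
      exact this.symm
    rw [h2, emb_single] at h1
    rw [← h1]
    exact XS_act m K hK k hk _ (eb_mem_XS K hK hX hK1 i₀ j₀ hij)

include hK hX in
theorem full_of_leviProj (hK1 : ∀ i : Fin m, tg m (eb i) (1 : F) ∈ K)
    (hK2 : ∀ i : Fin m, tg m (fb i) (1 : F) ∈ K) (i₀ j₀ : Fin m) (hij : i₀ ≠ j₀) :
    Cfsg.spGL m F ≤ K := by
  have hE := emb_mem_XS K hK hX hK1 i₀ j₀ hij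
  have he : (eb i₀ : V) ∈ XS m K := eb_mem_XS K hK hX hK1 i₀ j₀ hij
  -- `f_{i₀}` is a centre
  have hf : (fb i₀ : V) ∈ XS m K := by
    have h1 : (tg m (fb i₀) (1 : F)).1 *ᵥ (eb i₀ : V) ∈ XS m K := XS_act m K hK _ (hK2 i₀) _ he
    rw [tg_act, sf_fb_right] at h1
    have h2 := XS_hyp m K hK (eb i₀) _ he h1 (by
      rw [sf_add_left, sf_self, sf_smul_left, sf_fb_left]
      simp [eb]) (-1)
    have h3 := XS_smul m K (-1) _ h2
    have e : (-1 : F) • ((eb i₀ : V) + ((1 : F) * -(eb i₀ : V) (Sum.inl i₀)) • (fb i₀ : V)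
        + (-1 : F) • (eb i₀ : V)) = fb i₀ := by
      have : (eb i₀ : V) (Sum.inl i₀) = 1 := by simp [eb]
      rw [this]
      module
    rw [e] at h3
    exact h3
  have htgE : ∀ (r : Fin m → F) (c : F), tg m (emb r) c ∈ K := fun r c => hE r c
  have hrho : ∀ p q : Fin m → F, rho (emb p) (emb q) ∈ K := by
    intro p q
    unfold rho
    rw [← emb_add]
    exact K.mul_mem (K.mul_mem (htgE _ _) (htgE _ _)) (htgE _ _)
  apply le_of_XS_univ
  intro v
  by_cases hv2 : (fun i => v (Sum.inr i)) = 0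
  · rw [eq_emb_of_inr_zero v (fun i => congrFun hv2 i)]
    exact hE _
  · obtain ⟨t, ht, htv⟩ := exists_SL_move i₀ j₀ hij (fun i => v (Sum.inr i)) hv2
    have hA : (glT t)⁻¹ ∈ leviProj K :=
      hX ((Cfsg.Geo.specialLinear (Fin m) F).inv_mem (glT_mem_SL t ht))
    obtain ⟨k, hk, hk1⟩ := hA
    set w : V := k.1 *ᵥ v with hw
    -- the second half of `w` is the basis vector
    have hw2 : ∀ z : Fin m → F, (fun i => w (Sum.inr i)) ⬝ᵥ z = z i₀ := by
      intro z
      have h1 := hk1 ((glT t).1 *ᵥ z)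
      rw [Matrix.mulVec_mulVec, ← Units.val_mul, inv_mul_cancel, Units.val_one,
        Matrix.one_mulVec] at h1
      have h2 := (mem_spGL_iff m k).mp (hK hk) v (emb ((glT t).1 *ᵥ z))
      rw [h1, sf_emb_right, sf_emb_right] at h2
      rw [h2]
      show (fun i => v (Sum.inr i)) ⬝ᵥ ((t : Matrix (Fin m) (Fin m) F)ᵀ *ᵥ z) = z i₀
      rw [Matrix.dotProduct_mulVec, Matrix.vecMul_transpose, htv, single_dotProduct, one_mul]
    have hw2' : ∀ i, w (Sum.inr i) = if i = i₀ then 1 else 0 := by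
      intro i
      have := hw2 (Pi.single i 1)
      rw [dotProduct_single, mul_one, Pi.single_apply] at this
      rw [this]
      by_cases h : i = i₀
      · rw [if_pos h, if_pos h.symm]
      · rw [if_neg h, if_neg (fun h' => h h'.symm)]
    -- clear the first half outside `i₀`
    set z : Fin m → F := fun i => if i = i₀ then 0 else - w (Sum.inl i) with hz
    have hzi : z i₀ = 0 := by simp [hz]
    have hact : (rho (eb i₀) (emb z)).1 *ᵥ w = fb i₀ + w (Sum.inl i₀) • eb i₀ := by
      rw [rho_act _ _ (by rw [← emb_single, sf_emb_emb]), sf_eb_right, sf_emb_right, hw2, hzi,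
        hw2', if_pos rfl, zero_smul, add_zero, one_smul]
      funext a
      rcases a with a | a
      · by_cases h : a = i₀
        · subst h; simp [emb, eb, fb, hz]
        · simp [emb, eb, fb, hz, h, Pi.single_apply]
      · by_cases h : a = i₀
        · subst h; simp [emb, eb, fb, hw2']
        · simp [emb, eb, fb, hw2', h, Pi.single_apply]
    have h3 : fb i₀ + w (Sum.inl i₀) • (eb i₀ : V) ∈ XS m K :=
      XS_hyp m K hK (eb i₀) (fb i₀) he hf (by rw [sf_fb_left]; simp [eb]) _
    rw [← hact] at h3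
    have h3' : (rho (emb (Pi.single i₀ 1)) (emb z)).1 *ᵥ w ∈ XS m K := by
      rw [emb_single]; exact h3
    have h4 := XS_act m K hK _ (K.inv_mem (hrho (Pi.single i₀ 1) z)) _ h3'
    rw [gl_inv_act] at h4
    have h5 := XS_act m K hK _ (K.inv_mem hk) _ h4
    rw [hw, gl_inv_act] at h5
    exact h5

end

end Cfsg.Agent.Lib.Helper48.SpSub
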