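import Mathlib
import Cfsg.Prelude.Def_GeometricClasses
import Cfsg.Agent.Lib.Helper48.SpSub.Full
import Cfsg.Agent.Lib.Helper48.SpSub.Frob

set_option autoImplicit false
set_option linter.unusedSectionVars false
set_option linter.unusedVariables false
set_option linter.unusedSimpArgs false

/-! Maximality of the subfield subgroup of `Sp_{2m}(F)` in standard form. -/

namespace Cfsg.Agent.Lib.Helper48.SpSub

open scoped MatrixGroups Matrix
open Matrix Cfsg.Agent.Lib.Helper18 Cfsg.Agent.Lib.Helper11.SpMax Cfsg.Agent.Lib.Helper48.Subfield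
open Cfsg.Agent.Lib.Helper95

variable {F : Type*} [Field F] {m : ℕ}

local notation "V" => (Fin m ⊕ Fin m → F)
local notation "ff" => Cfsg.sympForm m F
local notation "GLm" => Matrix.GeneralLinearGroup (Fin m ⊕ Fin m) F

theorem G0_le_ratUpTo {ι : Type} [Fintype ι] [DecidableEq ι] (F₀ : Subfield F) :
    G0 (ι := ι) F₀ ≤ ratUpTo (ι := ι) F₀ := by
  intro g hg
  exact ⟨1, one_ne_zero, by simpa using ratMat_of_mem_G0 hg⟩

/-- the subfield subgroup in standard form is maximal in `Sp` -/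
theorem maximal_std [Fintype F] (hm : 4 ≤ m) (F₀ : Subfield F) (r : ℕ) (hr : r.Prime)
    (hF : Fintype.card F = Nat.card F₀ ^ r) :
    Cfsg.Geo.IsMaximalIn (Cfsg.spGL m F)
      (ratUpTo (ι := Fin m ⊕ Fin m) F₀ ⊓ Cfsg.spGL m F) := by
  set i₀ : Fin m := ⟨0, by omega⟩ with hi₀
  set j₀ : Fin m := ⟨1, by omega⟩ with hj₀
  have hij : i₀ ≠ j₀ := by
    intro h; simpa [hi₀, hj₀] using congrArg Fin.val h
  constructor
  · refine lt_of_le_of_ne inf_le_right ?_
    intro heq
    obtain ⟨a, ha⟩ : ∃ a : F, a ∉ F₀ := by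
      by_contra hcon
      push Not at hcon
      have h1 : Nat.card F₀ = Fintype.card F := by
        rw [← Nat.card_eq_fintype_card]
        exact Nat.card_congr ⟨fun x => x.1, fun x => ⟨x, hcon x⟩, fun _ => rfl, fun _ => rfl⟩
      rw [h1] at hF
      have hq : 2 ≤ Fintype.card F := Fintype.one_lt_card
      have hr2 := hr.two_le
      have h2 : Fintype.card F ^ 1 < Fintype.card F ^ r := Nat.pow_lt_pow_right hq (by omega)
      rw [pow_one] at h2
      omega
    have hmem : tg m (eb i₀) a ∈ Cfsg.spGL m F := tg_mem m _ _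
    rw [← heq] at hmem
    obtain ⟨c, hc0, hc⟩ := hmem.1
    have h1 := hc (Sum.inl i₀) (Sum.inl i₀)
    have h2 := hc (Sum.inl i₀) (Sum.inr i₀)
    have e1 : (tg m (eb i₀) a).1 (Sum.inl i₀) (Sum.inl i₀) = 1 := by
      have := congrFun (tg_act m (eb i₀) a (Pi.single (Sum.inl i₀) 1)) (Sum.inl i₀)
      rw [Matrix.mulVec_single_one, Matrix.col_apply] at this
      rw [this]
      have h0 : ff (Pi.single (Sum.inl i₀) 1 : V) (eb i₀) = 0 := sf_self m (eb i₀)
      rw [h0]
      simp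
    have e2 : (tg m (eb i₀) a).1 (Sum.inl i₀) (Sum.inr i₀) = a := by
      have := congrFun (tg_act m (eb i₀) a (Pi.single (Sum.inr i₀) 1)) (Sum.inl i₀)
      rw [Matrix.mulVec_single_one, Matrix.col_apply] at this
      rw [this]
      have h0 : ff (Pi.single (Sum.inr i₀) 1 : V) (eb i₀) = 1 := by
        rw [sf_eb_right]; simp
      rw [h0]
      simp [eb]
    rw [Matrix.smul_apply, e1, smul_eq_mul, mul_one] at h1
    rw [Matrix.smul_apply, e2, smul_eq_mul] at h2
    apply ha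
    have := F₀.div_mem h2 h1
    rwa [mul_div_cancel_left₀ _ hc0] at this
  · intro M hHM hMS
    have hM0 : ∀ g ∈ G0 (ι := Fin m ⊕ Fin m) F₀, g ∈ Cfsg.spGL m F → g ∈ M :=
      fun g hg hgs => hHM ⟨G0_le_ratUpTo F₀ hg, hgs⟩
    have hK1 : ∀ i : Fin m, tg m (eb i) (1 : F) ∈ M :=
      fun i => hM0 _ (tg_mem_G0 (rat_eb F₀ i) F₀.one_mem) (tg_mem m _ _)
    have hK2 : ∀ i : Fin m, tg m (fb i) (1 : F) ∈ M :=
      fun i => hM0 _ (tg_mem_G0 (rat_fb F₀ i) F₀.one_mem) (tg_mem m _ _)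
    have hlevi : ∀ g ∈ G0 (ι := Fin m) F₀, g ∈ leviProj M := by
      intro g hg
      exact ⟨levi g, hM0 _ (levi_mem_G0 g hg) (levi_mem g), fun x => levi_emb g x⟩
    have hK : ∀ (φ v : Fin m → F) (h : φ ⬝ᵥ v = 0), Rat F₀ φ → Rat F₀ v →
        tvGL φ v h ∈ leviProj M ⊓ Cfsg.Geo.specialLinear (Fin m) F :=
      fun φ v h hφ hv => ⟨hlevi _ (tvGL_mem_G0 φ v h hφ hv), tvGL_mem_specialLinear φ v h⟩
    have hcard3 : 3 ≤ Fintype.card (Fin m) := by rw [Fintype.card_fin]; omega
    rcases coeffSet_dichotomy (K := leviProj M ⊓ Cfsg.Geo.specialLinear (Fin m) F) hcard3 hK r hr hF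
      with hA | hA
    · left
      have S : SpSetup F₀ M :=
        ⟨hm, hMS, hM0,
          ⟨by rw [Fintype.card_fin]; exact hm, fun g hg hgS => ⟨hlevi g hg, hgS⟩, inf_le_right, hA⟩⟩
      refine le_antisymm (le_inf ?_ hMS) hHM
      intro g hg
      apply mem_ratUpTo_of_maps g (Sum.inl i₀)
      intro w hw hw0
      have h1 : g * tg m w 1 * g⁻¹ ∈ M :=
        M.mul_mem (M.mul_mem hg (S.tg_rat_mem hw F₀.one_mem)) (M.inv_mem hg)
      rw [conj_tg m g (hMS hg)] at h1
      by_cases hGP : GenPos F₀ (g.1 *ᵥ w)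
      · exact (S.no_genPos _ 1 one_ne_zero hGP h1).elim
      · unfold GenPos at hGP
        push Not at hGP
        obtain ⟨s, hs, hs0, hsu⟩ := hGP
        apply S.ratline_of_perp_emb _ 1 one_ne_zero s hs hs0 _ h1
        rw [sf_emb_right, dotProduct_comm]
        exact hsu
    · right
      refine le_antisymm hMS ?_
      have hX : Cfsg.Geo.specialLinear (Fin m) F ≤ leviProj M :=
        le_trans (specialLinear_le_of_coeffSet hA) inf_le_left
      exact full_of_leviProj M hMS hX hK1 hK2 i₀ j₀ hij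

end Cfsg.Agent.Lib.Helper48.SpSub
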