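import Mathlib
import Cfsg.Prelude.Def_GeometricClasses
import Cfsg.Agent.Lib.Helper48.SpSub.Main
import Cfsg.Agent.Lib.Helper20.SympEmbed

set_option autoImplicit false
set_option linter.unusedSectionVars false
set_option linter.unusedVariables false
set_option linter.unusedSimpArgs false

/-! Reduction of a general rational structure for the symplectic form to the standard one. -/

namespace Cfsg.Agent.Lib.Helper48.SpSub

open scoped MatrixGroups Matrix
open Matrix Cfsg.Agent.Lib.Helper18 Cfsg.Agent.Lib.Helper11.SpMax Cfsg.Agent.Lib.Helper48.Subfield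
open Cfsg.Agent.Lib.Helper95

variable {F : Type*} [Field F] {m : ℕ}

local notation "V" => (Fin m ⊕ Fin m → F)
local notation "ff" => Cfsg.sympForm m F
local notation "GLm" => Matrix.GeneralLinearGroup (Fin m ⊕ Fin m) F

/-- maximality is preserved by conjugation by an element normalising the big group -/
theorem isMaximalIn_map_conj' {G : Type*} [Group G] (S H : Subgroup G) (P : G)
    (hSmap : S.map (MulAut.conj P).toMonoidHom = S) (h : Cfsg.Geo.IsMaximalIn S H) :
    Cfsg.Geo.IsMaximalIn S (H.map (MulAut.conj P).toMonoidHom) := by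
  have hinj : Function.Injective (MulAut.conj P).toMonoidHom := (MulAut.conj P).injective
  have hsurj : Function.Surjective (MulAut.conj P).toMonoidHom := (MulAut.conj P).surjective
  constructor
  · have := (Subgroup.map_lt_map_iff_of_injective hinj).mpr h.1
    rwa [hSmap] at this
  · intro M hHM hMS
    have h1 : H ≤ M.comap (MulAut.conj P).toMonoidHom := Subgroup.map_le_iff_le_comap.mp hHM
    have h2 : M.comap (MulAut.conj P).toMonoidHom ≤ S := by
      have : M.comap (MulAut.conj P).toMonoidHom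
          ≤ (S.map (MulAut.conj P).toMonoidHom).comap (MulAut.conj P).toMonoidHom :=
        Subgroup.comap_mono (hSmap.symm ▸ hMS)
      rwa [Subgroup.comap_map_eq_self_of_injective hinj] at this
    have h3 : M = (M.comap (MulAut.conj P).toMonoidHom).map (MulAut.conj P).toMonoidHom :=
      (Subgroup.map_comap_eq_self_of_surjective hsurj M).symm
    rcases h.2 _ h1 h2 with h4 | h4
    · left; rw [h3, h4]
    · right; rw [h3, h4, hSmap]

/-- conjugation by an element of a subgroup fixes the subgroup -/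
theorem map_conj_eq_of_mem {G : Type*} [Group G] (R : Subgroup G) (Q : G) (hQ : Q ∈ R) :
    R.map (MulAut.conj Q).toMonoidHom = R := by
  ext x
  constructor
  · rintro ⟨y, hy, rfl⟩
    exact R.mul_mem (R.mul_mem hQ hy) (R.inv_mem hQ)
  · intro hx
    refine ⟨Q⁻¹ * x * Q, R.mul_mem (R.mul_mem (R.inv_mem hQ) hx) hQ, ?_⟩
    simp [MulAut.conj_apply, mul_assoc]

theorem sf_mulVec_mulVec (M : Matrix (Fin m ⊕ Fin m) (Fin m ⊕ Fin m) F) (x y : V) :
    ff (M *ᵥ x) (M *ᵥ y) = x ⬝ᵥ ((Mᵀ * Matrix.J (Fin m) F * M) *ᵥ y) := by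
  unfold Cfsg.sympForm
  rw [← Matrix.mulVec_mulVec, ← Matrix.mulVec_mulVec, Matrix.dotProduct_mulVec x,
    Matrix.vecMul_transpose]

/-- a similitude normalises the symplectic group -/
theorem spGL_map_conj (P : GLm) (ζ : F) (hζ : ζ ≠ 0)
    (hsim : ∀ x y : V, ζ * ff (P.1 *ᵥ x) (P.1 *ᵥ y) = ff x y) :
    (Cfsg.spGL m F).map (MulAut.conj P).toMonoidHom = Cfsg.spGL m F := by
  have h1 : ∀ x y : V, ff (P.1 *ᵥ x) (P.1 *ᵥ y) = ζ⁻¹ * ff x y := by
    intro x y
    rw [← hsim x y, ← mul_assoc, inv_mul_cancel₀ hζ, one_mul]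
  have h2 : ∀ x y : V, ff (P⁻¹.1 *ᵥ x) (P⁻¹.1 *ᵥ y) = ζ * ff x y := by
    intro x y
    have := hsim (P⁻¹.1 *ᵥ x) (P⁻¹.1 *ᵥ y)
    rw [gl_act_inv, gl_act_inv] at this
    exact this.symm
  ext g
  constructor
  · rintro ⟨y, hy, rfl⟩
    rw [mem_spGL_iff]
    intro u v
    show ff ((P * y * P⁻¹).1 *ᵥ u) ((P * y * P⁻¹).1 *ᵥ v) = ff u v
    rw [gl_mul_act, gl_mul_act, gl_mul_act, gl_mul_act, h1, (mem_spGL_iff m y).mp hy, h2,
      ← mul_assoc, inv_mul_cancel₀ hζ, one_mul]
  · intro hg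
    refine ⟨P⁻¹ * g * P, ?_, ?_⟩
    · show P⁻¹ * g * P ∈ Cfsg.spGL m F
      rw [mem_spGL_iff]
      intro u v
      rw [gl_mul_act, gl_mul_act, gl_mul_act, gl_mul_act, h2, (mem_spGL_iff m g).mp hg, h1,
        ← mul_assoc, mul_inv_cancel₀ hζ, one_mul]
    · simp [MulAut.conj_apply, mul_assoc]

theorem up_add (F₀ : Subfield F) {ι : Type} (x y : ι → F₀) : up F₀ (x + y) = up F₀ x + up F₀ y := by
  funext i; simp [up]

theorem up_smul (F₀ : Subfield F) {ι : Type} (c : F₀) (x : ι → F₀) :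
    up F₀ (c • x) = (c : F) • up F₀ x := by
  funext i; simp [up]

/-- Darboux: a rational structure for the symplectic form can be normalised -/
theorem exists_darboux (F₀ : Subfield F) (P : GLm) (ζ : F) (hζ : ζ ≠ 0)
    (hP : Cfsg.Geo.IsFormRationalStructure (Cfsg.sympForm m F) F₀ ζ P) :
    ∃ Q : GLm, Q ∈ G0 (ι := Fin m ⊕ Fin m) F₀ ∧
      ∀ x y : V, ζ * ff ((P * Q).1 *ᵥ x) ((P * Q).1 *ᵥ y) = ff x y := by
  classical
  -- the rational form
  let B₀ : LinearMap.BilinForm F₀ (Fin m ⊕ Fin m → F₀) :=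
    LinearMap.mk₂ F₀
      (fun u v => (⟨ζ * ff (P.1 *ᵥ up F₀ u) (P.1 *ᵥ up F₀ v),
        hP _ _ (rat_up F₀ u) (rat_up F₀ v)⟩ : F₀))
      (fun u u' v => by
        apply Subtype.ext
        simp only [up_add, Matrix.mulVec_add, sf_add_left, mul_add, Subfield.coe_add])
      (fun c u v => by
        apply Subtype.ext
        simp only [up_smul, Matrix.mulVec_smul, sf_smul_left, smul_eq_mul, Subfield.coe_mul]
        ring)
      (fun u v v' => by
        apply Subtype.ext
        simp only [up_add, Matrix.mulVec_add, sf_add_right, mul_add, Subfield.coe_add])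
      (fun c u v => by
        apply Subtype.ext
        simp only [up_smul, Matrix.mulVec_smul, sf_smul_right, smul_eq_mul, Subfield.coe_mul]
        ring)
  have hB₀ : ∀ u v, ((B₀ u v : F₀) : F) = ζ * ff (P.1 *ᵥ up F₀ u) (P.1 *ᵥ up F₀ v) :=
    fun u v => rfl
  have hAlt : B₀.IsAlt := by
    intro x
    apply Subtype.ext
    rw [hB₀, sf_self, mul_zero]
    rfl
  have hinjP : ∀ x : V, P.1 *ᵥ x = 0 → x = 0 := by
    intro x hx
    have := gl_inv_act m P x
    rw [hx, Matrix.mulVec_zero] at this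
    exact this.symm
  have hNd : B₀.Nondegenerate := by
    refine (LinearMap.IsRefl.nondegenerate_iff_separatingLeft hAlt.isRefl).2 ?_
    intro x hx
    set z : V := P.1 *ᵥ up F₀ x with hz
    have hvec : z ᵥ* (Matrix.J (Fin m) F * P.1) = 0 := by
      funext a
      have h1 := hx (Pi.single a 1)
      have h2 : ((B₀ x (Pi.single a 1) : F₀) : F) = 0 := by rw [h1]; rfl
      rw [hB₀, up_single] at h2
      have h3 : ff z (P.1 *ᵥ Pi.single a 1) = 0 := by
        rcases mul_eq_zero.mp h2 with h | h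
        · exact absurd h hζ
        · exact h
      unfold Cfsg.sympForm at h3
      rw [Matrix.mulVec_mulVec, Matrix.dotProduct_mulVec, dotProduct_single, mul_one] at h3
      exact h3
    have hz0 : z = 0 := by
      by_contra hne
      obtain ⟨w', hw'⟩ := sf_nondeg_top m z hne
      apply hw'
      have : w' = P.1 *ᵥ (P⁻¹.1 *ᵥ w') := (gl_act_inv m P w').symm
      rw [this]
      unfold Cfsg.sympForm
      rw [Matrix.mulVec_mulVec, Matrix.dotProduct_mulVec, hvec, zero_dotProduct]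
    have := hinjP _ hz0
    apply up_injective F₀
    rw [this]
    rfl
  have hV : Module.finrank F₀ (Fin m ⊕ Fin m → F₀) = 2 * m := by
    rw [Module.finrank_fintype_fun_eq_card, Fintype.card_sum, Fintype.card_fin, two_mul]
  obtain ⟨b, hb⟩ := Cfsg.Agent.Lib.Helper20.exists_symplectic_basis B₀ hAlt hNd m hV
  -- the change of basis
  set Q₀ : Matrix (Fin m ⊕ Fin m) (Fin m ⊕ Fin m) F₀ :=
    (Pi.basisFun F₀ (Fin m ⊕ Fin m)).toMatrix b with hQ₀
  let Q₀gl : GL (Fin m ⊕ Fin m) F₀ :=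
    ⟨Q₀, b.toMatrix (Pi.basisFun F₀ (Fin m ⊕ Fin m)),
      Module.Basis.toMatrix_mul_toMatrix_flip _ _, Module.Basis.toMatrix_mul_toMatrix_flip _ _⟩
  have hQcol : ∀ a : Fin m ⊕ Fin m, Q₀ *ᵥ (Pi.single a 1) = b a := by
    intro a
    rw [Matrix.mulVec_single_one]
    funext i
    rw [Matrix.col_apply, hQ₀, Module.Basis.toMatrix_apply, Pi.basisFun_repr]
  set Q : GLm := Matrix.GeneralLinearGroup.map (F₀.subtype : F₀ →+* F) Q₀gl with hQ
  have hQ0 : Q ∈ G0 (ι := Fin m ⊕ Fin m) F₀ := ⟨Q₀gl, rfl⟩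
  have hQact : ∀ a : Fin m ⊕ Fin m, (P * Q).1 *ᵥ (Pi.single a 1 : V) = P.1 *ᵥ up F₀ (b a) := by
    intro a
    rw [gl_mul_act, ← up_single F₀ a, hQ, map_mulVec_up]
    show P.1 *ᵥ up F₀ (Q₀ *ᵥ Pi.single a 1) = _
    rw [hQcol]
  refine ⟨Q, hQ0, ?_⟩
  -- the Gram matrix
  have hG : ζ • ((P * Q).1ᵀ * Matrix.J (Fin m) F * (P * Q).1) = Matrix.J (Fin m) F := by
    ext a a'
    have h1 : (ζ • ((P * Q).1ᵀ * Matrix.J (Fin m) F * (P * Q).1)) a a'
        = ζ * ff ((P * Q).1 *ᵥ (Pi.single a 1 : V)) ((P * Q).1 *ᵥ (Pi.single a' 1 : V)) := by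
      rw [sf_mulVec_mulVec, Matrix.mulVec_single_one, single_dotProduct, one_mul, Matrix.col_apply,
        Matrix.smul_apply, smul_eq_mul]
    rw [h1, hQact, hQact, ← hB₀]
    have h2 : B₀ (b a) (b a') = Matrix.J (Fin m) F₀ a a' := by
      rw [← hb, LinearMap.BilinForm.toMatrix_apply]
    rw [h2]
    rcases a with a | a <;> rcases a' with a' | a'
    · simp [Matrix.J]
    · simp [Matrix.J, Matrix.one_apply]
      split_ifs <;> simp
    · simp [Matrix.J, Matrix.one_apply]
      split_ifs <;> simp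
    · simp [Matrix.J]
  intro x y
  rw [sf_mulVec_mulVec, ← smul_eq_mul, ← dotProduct_smul, ← Matrix.smul_mulVec, hG]
  rfl

end Cfsg.Agent.Lib.Helper48.SpSub
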